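import Cfsg.Agent.Lib.Thompson.Quadratic
import Cfsg.Agent.Lib.Coprime.Generation
import Cfsg.Agent.Lib.Coprime.PGroupAction

/-!
# Offenders on modules of groups with a normal abelian `p'`-subgroup, `p` odd
-/

set_option autoImplicit false

namespace Cfsg.Lib.Thompson

open Subgroup
open scoped commutatorElement

universe u

variable {X : Type u} [Group X] {p : ℕ}

theorem isPGroup_of_isEA {A : Subgroup X} (hA : Cfsg.IsElementaryAbelian p A) : IsPGroup p A :=
  fun a => ⟨1, Subtype.ext (by rw [pow_one]; exact hA.2 _ a.2)⟩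

/-- For `p` odd, an elementary abelian `p`-group `A` acting faithfully on an abelian `p'`-group `Q`,
which is faithful on the elementary abelian `p`-group `V`, satisfies `|A| |C_V(A)| < |V|`. -/
theorem card_mul_card_centralizer_lt [Finite X] [hp : Fact p.Prime] (hp2 : p ≠ 2)
    {V Q : Subgroup X} (hV : Cfsg.IsElementaryAbelian p V) [IsMulCommutative Q]
    (hQ : (Nat.card Q).Coprime p) (hQV : Q ≤ normalizer (V : Set X))
    (hQ0 : Q ⊓ centralizer (V : Set X) = ⊥) :
    ∀ A : Subgroup X, Cfsg.IsElementaryAbelian p A → A ≤ normalizer (V : Set X) →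
      A ≤ normalizer (Q : Set X) → A ⊓ centralizer (Q : Set X) = ⊥ → A ≠ ⊥ →
      Nat.card A * Nat.card (V ⊓ centralizer (A : Set X) : Subgroup X) < Nat.card V := by
  intro A
  induction A using WellFoundedLT.induction with
  | ind A ih =>
  intro hA hAV hAQ hAQ0 hne
  by_contra hle
  push Not at hle
  have := hA.1
  have hAp : IsPGroup p A := isPGroup_of_isEA hA
  have hVp : IsPGroup p V := isPGroup_of_isEA hV
  have hcopAQ : (Nat.card A).Coprime (Nat.card Q) := by
    obtain ⟨k, hk⟩ := IsPGroup.iff_card.mp hAp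
    rw [hk]; exact (hQ.pow_right k).symm
  -- a cocyclic subgroup moving its fixed points
  obtain ⟨B, hB, hBne⟩ : ∃ B ∈ Cfsg.Lib.Coprime.cocyclic A,
      ⁅Q ⊓ centralizer (B : Set X), A⁆ ≠ ⊥ := by
    by_contra h
    push Not at h
    have h1 := Cfsg.Lib.Coprime.iSup_commutator_centralizer_cocyclic_eq hAQ hcopAQ
    have h2 : ⁅Q, A⁆ = ⊥ := by
      rw [← h1, eq_bot_iff]
      exact iSup₂_le fun B hB => (h B hB).le
    rw [commutator_eq_bot_iff_le_centralizer, le_centralizer_iff] at h2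
    exact hne (le_bot_iff.mp (hAQ0 ▸ le_inf le_rfl h2))
  obtain ⟨hBA, a, haA, hBa⟩ := hB
  have hlt : B < A := by
    refine lt_of_le_of_ne hBA fun h => hBne ?_
    rw [h, commutator_eq_bot_iff_le_centralizer]
    exact inf_le_right
  have hBEA : Cfsg.IsElementaryAbelian p B :=
    ⟨⟨⟨fun x y => Subtype.ext (congrArg Subtype.val
      (mul_comm' (⟨x, hBA x.2⟩ : A) ⟨y, hBA y.2⟩) :)⟩⟩, fun x hx => hA.2 x (hBA hx)⟩
  have hcA : ∀ x ∈ A, ∀ y ∈ A, Commute x y := fun x hx y hy =>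
    congrArg Subtype.val (mul_comm' (⟨x, hx⟩ : A) ⟨y, hy⟩)
  -- `|A| ≤ p |B|`
  have hcardA : Nat.card A ≤ p * Nat.card B := by
    have hza : zpowers a ≤ normalizer (B : Set X) := zpowers_le.mpr
      (centralizer_le_normalizer _ (mem_centralizer_iff.mpr fun y hy => (hcA y (hBA hy) a haA).eq))
    have h1 : Nat.card A ≤ Nat.card (B × zpowers a) := by
      refine Nat.card_le_card_of_surjective
        (fun z : B × zpowers a => (⟨(z.1 : X) * z.2,
          A.mul_mem (hBA z.1.2) (zpowers_le.mpr haA z.2.2)⟩ : A)) ?_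
      rintro ⟨x, hx⟩
      rw [← hBa] at hx
      obtain ⟨b, hb, c, hc, rfl⟩ := Cfsg.Lib.Coprime.exists_mul_of_mem_sup hza hx
      exact ⟨⟨⟨b, hb⟩, ⟨c, hc⟩⟩, rfl⟩
    rw [Nat.card_prod, Nat.card_zpowers, mul_comm] at h1
    exact h1.trans (Nat.mul_le_mul_right _
      (Nat.le_of_dvd hp.out.pos (orderOf_dvd_of_pow_eq_one (hA.2 a haA))))
  set W := V ⊓ centralizer (B : Set X) with hW
  set U := V ⊓ centralizer (A : Set X) with hU
  have hUW : U ≤ W := inf_le_inf_left _ (centralizer_le hBA)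
  have hBW : Nat.card B * Nat.card W ≤ Nat.card V := by
    by_cases hB1 : B = ⊥
    · rw [hB1, card_bot, one_mul]; exact card_le_of_le inf_le_left
    exact (ih B hlt hBEA (hBA.trans hAV) (hBA.trans hAQ)
      (le_bot_iff.mp (hAQ0 ▸ inf_le_inf_right _ hBA)) hB1).le
  have hWU : Nat.card W ≤ p * Nat.card U := by
    have h : Nat.card B * Nat.card W ≤ Nat.card B * (p * Nat.card U) :=
      calc Nat.card B * Nat.card W ≤ Nat.card V := hBW
        _ ≤ Nat.card A * Nat.card U := hle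
        _ ≤ p * Nat.card B * Nat.card U := Nat.mul_le_mul_right _ hcardA
        _ = Nat.card B * (p * Nat.card U) := by ring
    exact Nat.le_of_mul_le_mul_left h Nat.card_pos
  -- `a` acts quadratically on `W`
  have hAC : A ≤ normalizer (B : Set X) := fun x hx =>
    centralizer_le_normalizer _ (mem_centralizer_iff.mpr fun y hy => (hcA y (hBA hy) x hx).eq)
  have haW : a ∈ normalizer (W : Set X) :=
    Cfsg.Lib.Coprime.le_normalizer_inf_centralizer hAV hAC haA
  have := hV.1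
  have hcV : ∀ x ∈ V, ∀ y ∈ V, Commute x y := fun x hx y hy =>
    congrArg Subtype.val (mul_comm' (⟨x, hx⟩ : V) ⟨y, hy⟩)
  have hfW : ∀ w ∈ W, ⁅a, w⁆ ∈ W := fun w hw => by
    rw [commutatorElement_def]
    exact W.mul_mem ((mem_normalizer_iff.mp haW w).mp hw) (inv_mem hw)
  have hfmul : ∀ x y : W, ⁅a, ((x * y : W) : X)⁆ = ⁅a, (x : X)⁆ * ⁅a, (y : X)⁆ := by
    intro x y
    have hy : ⁅a, (y : X)⁆ ∈ V := (hfW y y.2).1
    rw [coe_mul, show ⁅a, (x : X) * (y : X)⁆ = ⁅a, (x : X)⁆ * ((x : X) * ⁅a, (y : X)⁆ * (x : X)⁻¹)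
      by simp [commutatorElement_def, mul_assoc]]
    rw [(hcV _ x.2.1 _ hy).eq, mul_inv_cancel_right]
  set f : W →* X := MonoidHom.mk' (fun w => ⁅a, (w : X)⁆) hfmul with hf
  set I := f.range with hI
  have hquad : ∀ w ∈ W, Commute a ⁅a, w⁆ := by
    have hIW : I ≤ W := by
      rintro _ ⟨w, rfl⟩
      exact hfW w w.2
    have hIp : IsPGroup p I := hVp.to_le (hIW.trans inf_le_left)
    have hcardI : Nat.card I ≤ p := by
      have h1 : Nat.card f.ker * Nat.card I = Nat.card W := by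
        rw [hI, ← index_ker]; exact f.ker.card_mul_index
      have h2 : Nat.card U ≤ Nat.card f.ker := by
        refine Nat.card_le_card_of_injective (fun u : U => (⟨⟨u, hUW u.2⟩, ?_⟩ : f.ker)) ?_
        · show ⁅a, (u : X)⁆ = 1
          exact commutatorElement_eq_one_iff_mul_comm.mpr (mem_centralizer_iff.mp u.2.2 a haA)
        · intro x y h
          exact Subtype.ext (congrArg (fun z : f.ker => ((z : W) : X)) h)
      exact Nat.le_of_mul_le_mul_left
        (calc Nat.card U * Nat.card I ≤ Nat.card f.ker * Nat.card I := Nat.mul_le_mul_right _ h2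
          _ = Nat.card W := h1
          _ ≤ p * Nat.card U := hWU
          _ = Nat.card U * p := mul_comm _ _) Nat.card_pos
    intro w hw
    have hwI : ⁅a, w⁆ ∈ I := ⟨⟨w, hw⟩, rfl⟩
    by_cases hI0 : I = ⊥
    · rw [hI0, mem_bot] at hwI
      rw [hwI]; exact Commute.one_right a
    have haI : zpowers a ≤ normalizer (I : Set X) := by
      rw [zpowers_le, mem_normalizer_iff_map_conj_eq]
      refine eq_of_le_of_card_ge ?_ (card_map_of_injective (MulAut.conj a).injective).ge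
      rintro _ ⟨_, ⟨w, rfl⟩, rfl⟩
      refine ⟨⟨a * w * a⁻¹, (mem_normalizer_iff.mp haW _).mp w.2⟩, ?_⟩
      show ⁅a, a * (w : X) * a⁻¹⁆ = a * ⁅a, (w : X)⁆ * a⁻¹
      simp [commutatorElement_def, mul_assoc]
    have hJ := Cfsg.Lib.PGroup.commutator_lt_of_isPGroup hIp (hAp.to_le (zpowers_le.mpr haA)) haI hI0
    have hJ0 : (⁅I, zpowers a⁆ : Subgroup X) = ⊥ := by
      obtain ⟨j, hj⟩ := IsPGroup.iff_card.mp (hIp.to_le hJ.le)
      have h3 : Nat.card (⁅I, zpowers a⁆ : Subgroup X) < p :=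
        lt_of_lt_of_le (by
          refine lt_of_le_of_ne (card_le_of_le hJ.le) fun h => hJ.ne (eq_of_le_of_card_ge hJ.le h.ge))
          hcardI
      rw [hj] at h3
      have : j < 1 := (Nat.pow_lt_pow_iff_right hp.out.one_lt).mp (by rwa [pow_one])
      exact card_eq_one.mp (by rw [hj, Nat.lt_one_iff.mp this, pow_zero])
    rw [commutator_eq_bot_iff_le_centralizer] at hJ0
    exact mem_centralizer_iff.mp (hJ0 hwI) a (mem_zpowers a)
  -- the commutators of `a` with `C_Q(B)` centralize `V`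
  set Q1 := Q ⊓ centralizer (B : Set X) with hQ1
  have : IsMulCommutative Q1 := ⟨⟨fun x y => Subtype.ext
    (congrArg Subtype.val (mul_comm' (⟨x, x.2.1⟩ : Q) ⟨y, y.2.1⟩) :)⟩⟩
  have hQ1W : Q1 ≤ normalizer (W : Set X) :=
    Cfsg.Lib.Coprime.le_normalizer_inf_centralizer (inf_le_left.trans hQV)
      (inf_le_right.trans (centralizer_le_normalizer _))
  have haQ1 : a ∈ normalizer (Q1 : Set X) :=
    Cfsg.Lib.Coprime.le_normalizer_inf_centralizer hAQ hAC haA
  have hWEA : Cfsg.IsElementaryAbelian p W :=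
    ⟨⟨⟨fun x y => Subtype.ext (hcV x x.2.1 y y.2.1).eq⟩⟩, fun x hx => hV.2 x hx.1⟩
  have hQ1c : (Nat.card Q1).Coprime p := hQ.coprime_dvd_left (card_dvd_of_le inf_le_left)
  set Q2 := closure ((fun q => ⁅q, a⁆) '' (Q1 : Set X)) with hQ2
  have hQ2Q1 : Q2 ≤ Q1 := by
    rw [hQ2, closure_le]
    rintro _ ⟨q, hq, rfl⟩
    show ⁅q, a⁆ ∈ Q1
    rw [commutatorElement_def, show q * a * q⁻¹ * a⁻¹ = q * (a * q⁻¹ * a⁻¹) by group]
    exact Q1.mul_mem hq ((mem_normalizer_iff.mp haQ1 _).mp (inv_mem hq))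
  have hWQ2 : W ≤ centralizer (Q2 : Set X) := by
    rw [le_centralizer_iff, hQ2, closure_le]
    rintro _ ⟨q, hq, rfl⟩
    exact commutator_mem_centralizer_of_quadratic hp2 hWEA hQ1c hQ1W haW haQ1 hquad hq
  have hVQ2 := Cfsg.Lib.Coprime.commutator_eq_bot_of_AxB V B Q2 hVp (hAp.to_le hBA)
    (hQ1c.coprime_dvd_left (card_dvd_of_le hQ2Q1)) (hBA.trans hAV)
    (hQ2Q1.trans (inf_le_left.trans hQV)) (hQ2Q1.trans inf_le_right) hWQ2
  rw [commutator_eq_bot_iff_le_centralizer, le_centralizer_iff] at hVQ2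
  have hQ20 : Q2 = ⊥ := le_bot_iff.mp (hQ0 ▸ le_inf (hQ2Q1.trans inf_le_left) hVQ2)
  refine hBne ?_
  rw [commutator_eq_bot_iff_le_centralizer, le_centralizer_iff, ← hBa, sup_le_iff, zpowers_le]
  refine ⟨le_centralizer_iff.mp inf_le_right, mem_centralizer_iff.mpr fun q hq => ?_⟩
  have : ⁅q, a⁆ ∈ Q2 := subset_closure ⟨q, hq, rfl⟩
  rw [hQ20, mem_bot] at this
  exact commutatorElement_eq_one_iff_mul_comm.mp this

end Cfsg.Lib.Thompson
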