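import Cfsg.Agent.Lib.Thompson.Transport
import Cfsg.Agent.Lib.Thompson.Offender
import Cfsg.Agent.Lib.Core.PSolvable
import Cfsg.Agent.Lib.PGroup.OddOmega
import Mathlib.GroupTheory.SemidirectProduct

/-!
# Thompson's normal `p`-complement theorem
-/

set_option autoImplicit false

namespace Cfsg.Lib.Thompson

open Subgroup Cfsg
open Cfsg.Lib.Fusion
open scoped Pointwise commutatorElement

universe u v

variable {p : ℕ} [hp : Fact p.Prime]

/-- The induction hypothesis of the proof. -/
def BelowOrder (p : ℕ) (G : Type u) [Group G] : Prop :=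
  ∀ (H : Type u) [Group H] [Finite H], Nat.card H < Nat.card G → ∀ P : Sylow p H,
    LocalComplements p (P : Subgroup H) → HasNormalPComplement p H

variable {G : Type u} [Group G] [Finite G]

theorem complement_subgroup_of_local (hIH : BelowOrder p G) {M : Subgroup G} (hM : M ≠ ⊤)
    (S : Sylow p M) (h : LocalComplements p ((S : Subgroup M).map M.subtype)) :
    HasNormalPComplement p M :=
  hIH M (Cfsg.Lib.Core.lt_card_of_ne_top hM) S
    (localComplements_of_injective M.subtype M.subtype_injective _ h)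

/-- Step 1: the normal `p`-subgroup. -/
theorem exists_normal_step (hIH : BelowOrder p G) (P : Sylow p G)
    (hP : LocalComplements p (P : Subgroup G)) (hG : ¬ HasNormalPComplement p G) :
    pCore p G ≠ ⊥ ∧ ∀ K : Subgroup G, IsPGroup p K → pCore p G < K →
      (P : Subgroup G) ≤ normalizer (K : Set G) →
        HasNormalPComplement p (normalizer (K : Set G)) := by
  have : Finite (Subgroup G) := Finite.of_injective _ SetLike.coe_injective
  set bad : Set (Subgroup G) :=
    {U | IsPGroup p U ∧ U ≠ ⊥ ∧ ¬ HasNormalPComplement p (normalizer (U : Set G))} with hbad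
  set v : Subgroup G → ℕ := fun U => (Nat.card (normalizer (U : Set G))).factorization p with hv
  set key : Subgroup G → ℕ := fun U => v U * (Nat.card G + 1) + Nat.card U with hkey
  have hbne : bad.Nonempty := by
    by_contra h
    refine hG (frobenius_local fun Q hQ hQ0 => ?_)
    by_contra hn
    exact h ⟨Q, hQ, hQ0, hn⟩
  obtain ⟨U, hU, hmax⟩ := (Set.toFinite bad).exists_maximalFor key bad hbne
  have hgood : ∀ K : Subgroup G, IsPGroup p K → K ≠ ⊥ → key U < key K →
      HasNormalPComplement p (normalizer (K : Set G)) := fun K hK hK0 hlt => by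
    by_contra hn
    exact absurd (hmax (j := K) ⟨hK, hK0, hn⟩ hlt.le) (not_le.mpr hlt)
  have hvlt : ∀ K : Subgroup G, v U < v K → key U < key K := fun K h => by
    have h1 : Nat.card U ≤ Nat.card G := card_le_card_group U
    show v U * (Nat.card G + 1) + Nat.card U < v K * (Nat.card G + 1) + Nat.card K
    have h2 : (v U + 1) * (Nat.card G + 1) ≤ v K * (Nat.card G + 1) := Nat.mul_le_mul_right _ h
    rw [add_mul, one_mul] at h2
    omega
  obtain ⟨hUp, hU0, hUn⟩ := hU
  have hNtop : normalizer (U : Set G) = ⊤ := by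
    by_contra hN
    refine hUn ?_
    set N := normalizer (U : Set G) with hNdef
    obtain ⟨S⟩ : Nonempty (Sylow p N) := inferInstance
    set S₁ := (S : Subgroup N).map N.subtype with hS₁
    have hS₁p : IsPGroup p S₁ := S.2.map _
    obtain ⟨P₀, hP₀⟩ := hS₁p.exists_le_sylow
    have hP₀h : LocalComplements p (P₀ : Subgroup G) := localComplements_sylow P P₀ hP
    refine complement_subgroup_of_local hIH hN S ?_
    rcases eq_or_lt_of_le hP₀ with heq | hlt
    · rw [← hS₁, heq]; exact hP₀h
    have hT := lt_inf_normalizer P₀.2 hlt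
    set T := (P₀ : Subgroup G) ⊓ normalizer (S₁ : Set G) with hTdef
    have hS₁0 : S₁ ≠ ⊥ := fun h => hU0 (le_bot_iff.mp (h ▸ sylow_of_normalizer hUp S))
    have hcardS : Nat.card S₁ = p ^ v U := by
      rw [hS₁, card_map_of_injective N.subtype_injective]
      exact S.card_eq_multiplicity
    obtain ⟨t, ht⟩ := IsPGroup.iff_card.mp (P₀.2.to_le (inf_le_left : T ≤ _))
    have hUt : v U < t := by
      have := card_lt_card_of_lt hT
      rw [hcardS, ht] at this
      exact (Nat.pow_lt_pow_iff_right hp.out.one_lt).mp this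
    have hbig : ∀ K : Subgroup G, IsPGroup p K → K ≠ ⊥ →
        normalizer (S₁ : Set G) ≤ normalizer (K : Set G) →
        HasNormalPComplement p (normalizer (K : Set G)) := by
      intro K hK hK0 hle
      refine hgood K hK hK0 (hvlt K (lt_of_lt_of_le hUt ?_))
      have h1 := card_dvd_of_le ((inf_le_right : T ≤ _).trans hle)
      rw [ht] at h1
      exact (hp.out.pow_dvd_iff_le_factorization Nat.card_pos.ne').mp h1
    refine ⟨hbig _ (hS₁p.to_le (thompsonSubgroupOf_le _)) (thompsonSubgroupOf_ne_bot hS₁p hS₁0)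
      (normalizer_le_normalizer_thompsonSubgroupOf _), ?_⟩
    exact hasNormalPComplement_of_le (centralizer_le_normalizer _)
      (hbig _ (hS₁p.to_le inf_le_left) (zenter_ne_bot hS₁p hS₁0)
        (normalizer_le_normalizer_zenter _))
  have hUH : U ≤ pCore p G :=
    Cfsg.Lib.Core.le_pCore' (normalizer_eq_top_iff.mp hNtop) hUp
  refine ⟨fun h => hU0 (le_bot_iff.mp (h ▸ hUH)), fun K hK hlt hPK => ?_⟩
  refine hgood K hK (fun h => not_lt_bot (h ▸ hlt)) ?_
  have hvU : v U = (Nat.card G).factorization p := by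
    show (Nat.card (normalizer (U : Set G))).factorization p = _
    rw [hNtop, card_top]
  have hvK : (Nat.card G).factorization p ≤ v K := by
    have h1 := card_dvd_of_le hPK
    rw [P.card_eq_multiplicity] at h1
    exact (hp.out.pow_dvd_iff_le_factorization Nat.card_pos.ne').mp h1
  show v U * (Nat.card G + 1) + Nat.card U < v K * (Nat.card G + 1) + Nat.card K
  have h2 : Nat.card U < Nat.card K := card_lt_card_of_lt (lt_of_le_of_lt hUH hlt)
  have h3 : v U * (Nat.card G + 1) ≤ v K * (Nat.card G + 1) :=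
    Nat.mul_le_mul_right _ (hvU ▸ hvK)
  omega

/-- Step 2: the quotient by the `p`-core. -/
theorem quotient_step (hIH : BelowOrder p G) (P : Sylow p G) (hH : pCore p G ≠ ⊥)
    (hK : ∀ K : Subgroup G, IsPGroup p K → pCore p G < K →
      (P : Subgroup G) ≤ normalizer (K : Set G) →
        HasNormalPComplement p (normalizer (K : Set G))) :
    HasNormalPComplement p (G ⧸ pCore p G) := by
  set q := QuotientGroup.mk' (pCore p G) with hq
  have hqs : Function.Surjective q := QuotientGroup.mk'_surjective _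
  set P' := P.mapSurjective hqs with hP'
  have hPc : (P' : Subgroup (G ⧸ pCore p G)) = (P : Subgroup G).map q :=
    P.coe_mapSurjective hqs
  by_cases h1 : (P' : Subgroup (G ⧸ pCore p G)) = ⊥
  · refine hasNormalPComplement_of_coprime (Nat.Coprime.symm (hp.out.coprime_iff_not_dvd.mpr ?_))
    intro hd
    exact P'.ne_bot_of_dvd_card hd h1
  have hP'p : IsPGroup p (P' : Subgroup (G ⧸ pCore p G)) := P'.2
  have hmain : ∀ K : Subgroup (G ⧸ pCore p G), IsPGroup p K → K ≠ ⊥ →
      normalizer ((P' : Subgroup (G ⧸ pCore p G)) : Set (G ⧸ pCore p G)) ≤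
        normalizer (K : Set (G ⧸ pCore p G)) →
      HasNormalPComplement p (normalizer (K : Set (G ⧸ pCore p G))) := by
    intro K hKp hK0 hle
    have hker : q.ker = pCore p G := QuotientGroup.ker_mk' _
    have hKc : IsPGroup p (K.comap q) :=
      hKp.comap_of_ker_isPGroup q (hker.symm ▸ Cfsg.Lib.Core.pCore_isPGroup p G)
    have hlt : pCore p G < K.comap q := by
      refine lt_of_le_of_ne (hker.symm.trans_le (ker_le_comap q K)) fun h => hK0 ?_
      rw [← map_comap_eq_self_of_surjective hqs K, ← h, Subgroup.map_eq_bot_iff, hker]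
    have hPle : (P : Subgroup G) ≤ normalizer ((K.comap q : Subgroup G) : Set G) := by
      rw [← comap_normalizer_eq_of_surjective K hqs, ← map_le_iff_le_comap, ← hPc]
      exact le_normalizer.trans hle
    have h2 := hK _ hKc hlt hPle
    have hmem : ∀ x : normalizer ((K.comap q : Subgroup G) : Set G),
        q x ∈ normalizer (K : Set (G ⧸ pCore p G)) := fun x =>
      (comap_normalizer_eq_of_surjective K hqs).ge x.2
    refine hasNormalPComplement_of_surjective
      ((q.comp (normalizer ((K.comap q : Subgroup G) : Set G)).subtype).codRestrict _ hmem) ?_ h2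
    rintro ⟨y, hy⟩
    obtain ⟨x, rfl⟩ := hqs y
    refine ⟨⟨x, ?_⟩, rfl⟩
    rw [← comap_normalizer_eq_of_surjective K hqs]
    exact hy
  refine hIH _ (Cfsg.Lib.Core.card_quotient_lt hH) P' ⟨?_, ?_⟩
  · exact hmain _ (hP'p.to_le (thompsonSubgroupOf_le _)) (thompsonSubgroupOf_ne_bot hP'p h1)
      (normalizer_le_normalizer_thompsonSubgroupOf _)
  · exact hasNormalPComplement_of_le (centralizer_le_normalizer _)
      (hmain _ (hP'p.to_le inf_le_left) (zenter_ne_bot hP'p h1) (normalizer_le_normalizer_zenter _))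

/-- Step 3: no normal `p'`-subgroup. -/
theorem pPrimeCore_step (hIH : BelowOrder p G) (P : Sylow p G)
    (hP : LocalComplements p (P : Subgroup G)) (hG : ¬ HasNormalPComplement p G) :
    pPrimeCore p G = ⊥ := by
  by_contra hM
  set q := QuotientGroup.mk' (pPrimeCore p G) with hq
  have hqs : Function.Surjective q := QuotientGroup.mk'_surjective _
  have hker : q.ker = pPrimeCore p G := QuotientGroup.ker_mk' _
  have hcop : (Nat.card q.ker).Coprime p := by
    rw [hker]; exact Cfsg.Lib.Core.pPrimeCore_coprime p G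
  have h := hIH _ (Cfsg.Lib.Core.card_quotient_lt hM) (P.mapSurjective hqs)
    (by rw [P.coe_mapSurjective hqs]; exact localComplements_map_of_coprime q hqs hcop P.2 hP)
  rw [hasNormalPComplement_iff_coprime] at h
  refine hG (hasNormalPComplement_of_normal ((pResidual p (G ⧸ pPrimeCore p G)).comap q) ?_ ?_)
  · rw [Cfsg.Lib.Core.card_comap_eq q hqs]
    exact hcop.mul_left h
  · obtain ⟨k, hk⟩ := index_pResidual_eq_pow (p := p) (G := G ⧸ pPrimeCore p G)
    refine IsPGroup.of_card (n := k) ?_
    show ((pResidual p (G ⧸ pPrimeCore p G)).comap q).index = p ^ k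
    rw [index_comap_of_surjective _ hqs, hk]

theorem no_minimal_counterexample (hp2 : p ≠ 2) (hIH : BelowOrder p G) (P : Sylow p G)
    (hP : LocalComplements p (P : Subgroup G)) (hG : ¬ HasNormalPComplement p G) : False := by
  obtain ⟨hH0, hK⟩ := exists_normal_step hIH P hP hG
  have hbarN := quotient_step hIH P hH0 hK
  have hO := pPrimeCore_step hIH P hP hG
  set H := pCore p G with hHdef
  have hHp : IsPGroup p H := Cfsg.Lib.Core.pCore_isPGroup p G
  have hHP : H ≤ (P : Subgroup G) := Cfsg.Lib.Core.pCore_le_sylow P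
  have hproper : ∀ K : Subgroup G, HasNormalPComplement p K → K ≠ ⊤ := by
    intro K h hK
    subst hK
    exact hG ((hasNormalPComplement_congr topEquiv).mp h)
  set q := QuotientGroup.mk' H with hq
  have hqs : Function.Surjective q := QuotientGroup.mk'_surjective _
  have hker : q.ker = H := QuotientGroup.ker_mk' _
  set R := pResidual p (G ⧸ H) with hR
  have hRcop : (Nat.card R).Coprime p := hasNormalPComplement_iff_coprime.mp hbarN
  -- `p`-solvable
  have hsolv : IsPSolvable p G := by
    rw [Cfsg.Lib.Core.isPSolvable_iff]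
    obtain ⟨k, hk⟩ := IsPGroup.iff_card.mp hHp
    refine Cfsg.Lib.Core.HasFactorChain.extension H (Or.inl ⟨k, hk⟩) ?_
    exact Cfsg.Lib.Core.HasFactorChain.extension R (Or.inr hRcop)
      ((Cfsg.Lib.Core.isPSolvable_iff p).mp
        (Cfsg.Lib.Core.isPSolvable_of_isPGroup isPGroup_quotient_pResidual))
  have hCH : centralizer (H : Set G) ≤ H :=
    Cfsg.Lib.Core.centralizer_pCore_le_of_isPSolvable hsolv hO
  -- proper overgroups of `P`
  have hover : ∀ M : Subgroup G, (P : Subgroup G) ≤ M → M ≠ ⊤ → M = (P : Subgroup G) := by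
    intro M hPM hM
    have hMn : HasNormalPComplement p M := by
      refine complement_subgroup_of_local hIH hM (P.subtype hPM) ?_
      rw [Sylow.coe_subtype, map_subgroupOf_eq_of_le hPM]
      exact hP
    set RM := (pResidual p M).map M.subtype with hRM
    have hMN : M ≤ normalizer (RM : Set G) := by
      intro g hg
      rw [mem_normalizer_iff_map_conj_eq]
      refine eq_of_le_of_card_ge ?_ (card_map_of_injective (MulAut.conj g).injective).ge
      rintro _ ⟨_, ⟨r, hr, rfl⟩, rfl⟩
      exact ⟨⟨g, hg⟩ * r * ⟨g, hg⟩⁻¹, (pResidual_normal p M).conj_mem r hr _, rfl⟩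
    have hRMcop : (Nat.card RM).Coprime p := by
      rw [hRM, card_map_of_injective M.subtype_injective]
      exact hasNormalPComplement_iff_coprime.mp hMn
    obtain ⟨k, hk⟩ := IsPGroup.iff_card.mp hHp
    have hRH : RM ⊓ H = ⊥ :=
      disjoint_iff.mp (Cfsg.Lib.Coprime.disjoint_of_coprime_card
        (by rw [hk]; exact hRMcop.pow_right k))
    have hcomm : ⁅RM, H⁆ = ⊥ := le_bot_iff.mp (hRH ▸ le_inf
      (Cfsg.Lib.Coprime.commutator_le_of_le_normalizer ((hHP.trans hPM).trans hMN))
      (commutator_le_right RM H))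
    rw [commutator_eq_bot_iff_le_centralizer] at hcomm
    have hRM0 : pResidual p M = ⊥ := by
      apply map_injective M.subtype_injective
      rw [Subgroup.map_bot, ← hRM]
      exact le_bot_iff.mp (hRH ▸ le_inf le_rfl (hcomm.trans hCH))
    obtain ⟨j, hj⟩ := index_pResidual_eq_pow (p := p) (G := M)
    rw [hRM0, index_bot] at hj
    exact P.3 (IsPGroup.of_card hj) hPM
  -- the residual of the quotient
  set Pb := (P : Subgroup G).map q with hPb
  have hPbp : IsPGroup p Pb := P.2.map q
  obtain ⟨kP, hkP⟩ := IsPGroup.iff_card.mp hPbp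
  have hRPb : R ⊓ Pb = ⊥ := disjoint_iff.mp (Cfsg.Lib.Coprime.disjoint_of_coprime_card
    (by rw [hkP]; exact hRcop.pow_right kP))
  have hRne : R ≠ ⊥ := by
    intro h
    obtain ⟨j, hj⟩ := index_pResidual_eq_pow (p := p) (G := G ⧸ H)
    rw [← hR, h, index_bot] at hj
    obtain ⟨i, hi⟩ := IsPGroup.iff_card.mp hHp
    exact hG (hasNormalPComplement_of_isPGroup (IsPGroup.of_card (n := i + j) (by
      rw [card_eq_card_quotient_mul_card_subgroup H, hj, hi, pow_add, mul_comm])))
  have hgen : ∀ K : Subgroup (G ⧸ H), K ≤ R → Pb ≤ normalizer (K : Set (G ⧸ H)) → K ≠ ⊥ →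
      K = R := by
    intro K hKR hPK hK0
    by_cases hM : (K ⊔ Pb).comap q = ⊤
    · refine le_antisymm hKR fun r hr => ?_
      have htop : K ⊔ Pb = ⊤ := by
        rw [← map_comap_eq_self_of_surjective hqs (K ⊔ Pb), hM, map_top_of_surjective q hqs]
      obtain ⟨k, hk, s, hs, rfl⟩ :=
        Cfsg.Lib.Coprime.exists_mul_of_mem_sup hPK (htop ▸ mem_top r : r ∈ K ⊔ Pb)
      have hsR : s ∈ R ⊓ Pb := ⟨by simpa using R.mul_mem (R.inv_mem (hKR hk)) hr, hs⟩
      rw [hRPb, mem_bot] at hsR
      rw [hsR, mul_one]; exact hk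
    · have h := hover _ (by rw [← map_le_iff_le_comap]; exact le_sup_right) hM
      refine absurd (le_bot_iff.mp (hRPb ▸ le_inf hKR ?_)) hK0
      rw [hPb, ← h, map_comap_eq_self_of_surjective hqs]
      exact le_sup_left
  have hRnorm : ∀ K : Subgroup (G ⧸ H), K ≤ normalizer (R : Set (G ⧸ H)) := fun K => by
    rw [normalizer_eq_top]; exact le_top
  have hRsol : Group.IsSolvable R := by
    have h1 : Nat.card R ≠ 1 := fun h => hRne (card_eq_one.mp h)
    obtain ⟨q₀, hq₀, hd⟩ := Nat.exists_prime_and_dvd h1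
    have : Fact q₀.Prime := ⟨hq₀⟩
    obtain ⟨Q, hQ⟩ := Cfsg.Lib.Coprime.exists_invariant_sylow (hRnorm Pb)
      (by rw [hkP]; exact (hRcop.pow_right kP).symm)
      (Or.inl (by have := hPbp.isNilpotent; infer_instance)) q₀
    have hQR := hgen _ (map_subtype_le _) hQ (by
      rw [ne_eq, Subgroup.map_eq_bot_iff_of_injective _ R.subtype_injective]
      exact Q.ne_bot_of_dvd_card hd)
    have hRq : IsPGroup q₀ R := hQR ▸ Q.2.map _
    have := hRq.isNilpotent
    infer_instance
  have : IsMulCommutative R := by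
    rw [← commutator_self_eq_bot_iff]
    by_contra hne
    have heq := hgen _ (commutator_le_self R)
      (by have : (⁅R, R⁆ : Subgroup (G ⧸ H)).Normal := inferInstance
          rw [normalizer_eq_top]; exact le_top) hne
    have : Nontrivial R := (nontrivial_iff_ne_bot R).mpr hRne
    refine (Group.IsSolvable.commutator_lt_top_of_nontrivial R).ne (map_injective R.subtype_injective ?_)
    rw [map_subtype_commutator, heq, ← MonoidHom.range_eq_map, range_subtype]
  -- a largest elementary abelian subgroup outside `H`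
  obtain ⟨A, hA, hAP, hAH⟩ : ∃ A ∈ maxElementaryAbelianSubgroups p G,
      A ≤ (P : Subgroup G) ∧ ¬ A ≤ H := by
    by_contra h
    push Not at h
    obtain ⟨A₀, hA₀, hA₀P⟩ := exists_maxEA_le_sylow P
    have hJ : thompsonSubgroupOf p (P : Subgroup G) = thompsonSubgroupOf p H := by
      rw [thompsonSubgroupOf_eq _ ⟨A₀, hA₀, hA₀P⟩, thompsonSubgroupOf_eq _ ⟨A₀, hA₀, h A₀ hA₀ hA₀P⟩]
      exact congrArg sSup (Set.ext fun A =>
        ⟨fun hA => ⟨hA.1, h A hA.1 hA.2⟩, fun hA => ⟨hA.1, hA.2.trans hHP⟩⟩)
    refine hproper _ hP.1 ?_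
    rw [hJ, normalizer_eq_top_iff]
    exact Cfsg.Lib.Core.normal_map_char_of_normal _
  -- the module
  set ZH := zenter H with hZH
  have hZHn : ZH.Normal := by
    show (H ⊓ centralizer (H : Set G)).Normal
    infer_instance
  set s : Set G := {x | x ∈ ZH ∧ x ^ p = 1} with hs
  set V := closure s with hVdef
  have hVEA : IsElementaryAbelian p V := isEA_closure
    (fun a ha b hb => mem_centralizer_iff.mp (inf_le_right (a := H) hb.1) a (inf_le_left (b := centralizer (H : Set G)) ha.1))
    (fun a ha => ha.2)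
  have hVZ : V ≤ ZH := (closure_le _).mpr fun x hx => hx.1
  have hVn : V.Normal := ⟨fun v hv g => subset_closure
    ⟨hZHn.conj_mem v (hVZ hv) g, by rw [conj_pow, hVEA.2 v hv, mul_one, mul_inv_cancel]⟩⟩
  have hHV : H ≤ centralizer (V : Set G) :=
    le_centralizer_iff.mp (hVZ.trans inf_le_right)
  have hZP : centralizer (zenter (P : Subgroup G) : Set G) = (P : Subgroup G) :=
    hover _ (le_centralizer_iff.mp inf_le_right) (hproper _ hP.2)
  have hp'1 : ∀ x ∈ centralizer (V : Set G), (orderOf x).Coprime p → x = 1 := by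
    intro x hx hco
    obtain ⟨j, hj⟩ := IsPGroup.iff_card.mp (hHp.to_le (inf_le_left : ZH ≤ H))
    have hxZ : zpowers x ≤ centralizer (ZH : Set G) :=
      Cfsg.Lib.PGroup.le_centralizer_of_centralizes_omega hp2 (zpowers x) ZH
        (hHp.to_le inf_le_left) (by rw [normalizer_eq_top]; exact le_top)
        (by rw [Nat.card_zpowers, hj]; exact hco.pow_right j)
        (fun z hz hzp a ha =>
          (mem_centralizer_iff.mp (zpowers_le.mpr hx ha) z (subset_closure ⟨hz, hzp⟩)).symm)
    have hle : zenter (P : Subgroup G) ≤ ZH := by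
      have h1 : zenter (P : Subgroup G) ≤ centralizer (H : Set G) :=
        inf_le_right.trans (centralizer_le hHP)
      exact le_inf (h1.trans hCH) h1
    have hxP : x ∈ (P : Subgroup G) :=
      hZP.le (centralizer_le hle (hxZ (mem_zpowers x)))
    obtain ⟨i, hi⟩ := IsPGroup.iff_card.mp P.2
    have h1 : orderOf x ∣ p ^ i := hi ▸ orderOf_dvd_natCard _ hxP
    exact orderOf_eq_one_iff.mp (Nat.Coprime.eq_one_of_dvd (hco.pow_right i) h1)
  have hCV : centralizer (V : Set G) = H := by
    refine le_antisymm (Cfsg.Lib.Core.le_pCore' inferInstance (IsPGroup.of_card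
      (Nat.eq_prime_pow_of_unique_prime_dvd (p := p) Nat.card_pos.ne' fun {d} hd hdvd => ?_))) hHV
    by_contra hne
    have : Fact d.Prime := ⟨hd⟩
    obtain ⟨x, hx⟩ := exists_prime_orderOf_dvd_card' (G := centralizer (V : Set G)) d hdvd
    have hx1 : (x : G) = 1 := hp'1 x x.2 (by
      rw [Subgroup.orderOf_coe, hx]
      exact (Nat.coprime_primes hd hp.out).mpr hne)
    rw [← Subgroup.orderOf_coe, hx1, orderOf_one] at hx
    exact hd.ne_one hx.symm
  -- the semidirect product of the module with the quotient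
  set ψ : G →* MulAut V := MulAut.conjNormal with hψ
  have hψker : ψ.ker = H := by
    rw [← hCV]
    ext g
    rw [MonoidHom.mem_ker, mem_centralizer_iff]
    refine ⟨fun h v hv => ?_, fun h => MulEquiv.ext fun v => Subtype.ext ?_⟩
    · have := congrArg Subtype.val (DFunLike.congr_fun h (⟨v, hv⟩ : V))
      rw [hψ, MulAut.conjNormal_apply] at this
      exact (mul_inv_eq_iff_eq_mul.mp this).symm
    · rw [hψ, MulAut.conjNormal_apply]
      show g * (v : G) * g⁻¹ = v
      rw [← h v v.2, mul_inv_cancel_right]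
  set e : G ⧸ H ≃* ψ.range :=
    (QuotientGroup.quotientMulEquivOfEq hψker.symm).trans (QuotientGroup.quotientKerEquivRange ψ)
  have he : ∀ g : G, ((e (q g) : ψ.range) : MulAut V) = ψ g := fun g => rfl
  let X := SemidirectProduct V ψ.range ψ.range.subtype
  have : Finite X := Finite.of_equiv _ SemidirectProduct.equivProd.symm
  let ι : G ⧸ H →* X := (SemidirectProduct.inr).comp e.toMonoidHom
  have hι : Function.Injective ι := SemidirectProduct.inr_injective.comp e.injective
  set VX : Subgroup X := (SemidirectProduct.inl : V →* X).range with hVX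
  have hVXEA : IsElementaryAbelian p VX := by
    refine ⟨⟨⟨?_⟩⟩, ?_⟩
    · rintro ⟨_, v, rfl⟩ ⟨_, w, rfl⟩
      exact Subtype.ext ((Commute.map (f := (SemidirectProduct.inl : V →* X))
        (Subtype.ext (isEA_commute hVEA v.2 w.2).eq : Commute v w)).eq)
    · rintro _ ⟨v, rfl⟩
      rw [← map_pow, show v ^ p = 1 from Subtype.ext (hVEA.2 _ v.2), map_one]
  have hVXn : ∀ K : Subgroup X, K ≤ normalizer (VX : Set X) := fun K => by
    have : VX.Normal := by
      rw [hVX, SemidirectProduct.range_inl_eq_ker_rightHom]; infer_instance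
    rw [normalizer_eq_top]; exact le_top
  set Q := R.map ι with hQdef
  have : IsMulCommutative Q := by
    refine ⟨⟨?_⟩⟩
    rintro ⟨_, a, ha, rfl⟩ ⟨_, b, hb, rfl⟩
    have h := congrArg Subtype.val (mul_comm' (⟨a, ha⟩ : R) ⟨b, hb⟩)
    exact Subtype.ext (by simpa only [Subgroup.coe_mul, map_mul] using congrArg ι h)
  set Ab := A.map q with hAb
  have hfix : ∀ g : G, ∀ v : V, (SemidirectProduct.inr (e (q g)) : X) * SemidirectProduct.inl v *
      (SemidirectProduct.inr (e (q g)))⁻¹ = SemidirectProduct.inl (ψ g v) := fun g v => by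
    rw [← map_inv, ← SemidirectProduct.inl_aut]
    rfl
  have hQ0 : Q ⊓ centralizer (VX : Set X) = ⊥ := by
    rw [eq_bot_iff]
    rintro _ ⟨⟨r, hr, rfl⟩, hc⟩
    obtain ⟨g, rfl⟩ := hqs r
    have hg : g ∈ H := by
      rw [← hψker, MonoidHom.mem_ker]
      refine MulEquiv.ext fun v => SemidirectProduct.inl_injective (φ := ψ.range.subtype) ?_
      rw [← hfix g v]
      exact mul_inv_eq_iff_eq_mul.mpr (mem_centralizer_iff.mp hc _ ⟨v, rfl⟩).symm
    rw [← hker, MonoidHom.mem_ker] at hg
    rw [hg, map_one]; exact one_mem _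
  have hAQ0 : Ab ⊓ centralizer (R : Set (G ⧸ H)) = ⊥ := by
    set K := Pb ⊓ centralizer (R : Set (G ⧸ H)) with hK
    have htop : Pb ⊔ R = ⊤ := by
      have h := sylow_sup_pResidual (P.mapSurjective hqs)
      rwa [P.coe_mapSurjective hqs] at h
    have hKn : K.Normal := by
      rw [← normalizer_eq_top_iff, eq_top_iff, ← htop, sup_le_iff]
      refine ⟨?_, (le_centralizer_iff.mp inf_le_right).trans (centralizer_le_normalizer _)⟩
      exact Cfsg.Lib.Coprime.le_normalizer_inf_centralizer le_normalizer (hRnorm Pb)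
    have := (Cfsg.Lib.Core.le_pCore' hKn (hPbp.to_le inf_le_left)).trans_eq
      Cfsg.Lib.Core.pCore_quotient_pCore_eq_bot
    exact le_bot_iff.mp ((inf_le_inf_right _ (map_mono hAP)).trans this)
  have hbound := card_mul_card_centralizer_lt hp2 hVXEA (Q := Q)
    (by rw [hQdef, card_map_of_injective hι]; exact hRcop) (hVXn Q) hQ0 (Ab.map ι)
    (isEA_map ι (isEA_map q hA.1)) (hVXn _)
    ((map_mono (hRnorm Ab)).trans (le_normalizer_map ι))
    (by
      rw [eq_bot_iff]
      rintro _ ⟨⟨a, ha, rfl⟩, hc⟩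
      have : a ∈ Ab ⊓ centralizer (R : Set (G ⧸ H)) := ⟨ha, mem_centralizer_iff.mpr fun r hr =>
        hι (by rw [map_mul, map_mul]; exact mem_centralizer_iff.mp hc _ ⟨r, hr, rfl⟩)⟩
      rw [hAQ0, mem_bot] at this
      rw [this, map_one]; exact one_mem _)
    (by
      rw [ne_eq, Subgroup.map_eq_bot_iff_of_injective _ hι, hAb, Subgroup.map_eq_bot_iff, hker]
      exact hAH)
  have hcardV : Nat.card VX = Nat.card V :=
    (Nat.card_congr (MonoidHom.ofInjective SemidirectProduct.inl_injective).toEquiv).symm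
  rw [card_map_of_injective hι, hcardV] at hbound
  have hfixle : Nat.card (V ⊓ centralizer (A : Set G) : Subgroup G) ≤
      Nat.card (VX ⊓ centralizer ((Ab.map ι : Subgroup X) : Set X) : Subgroup X) := by
    refine Nat.card_le_card_of_injective (fun v => ⟨SemidirectProduct.inl ⟨(v : G), v.2.1⟩,
      ⟨_, rfl⟩, mem_centralizer_iff.mpr ?_⟩) ?_
    · rintro _ ⟨_, ⟨a, ha, rfl⟩, rfl⟩
      have h : ψ a ⟨(v : G), v.2.1⟩ = ⟨(v : G), v.2.1⟩ := Subtype.ext (by
        rw [hψ, MulAut.conjNormal_apply]
        exact mul_inv_eq_iff_eq_mul.mpr (mem_centralizer_iff.mp v.2.2 a ha))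
      exact mul_inv_eq_iff_eq_mul.mp ((hfix a _).trans (congrArg _ h))
    · intro v w h
      have := SemidirectProduct.inl_injective (congrArg Subtype.val h)
      exact Subtype.ext (congrArg (fun z : V => (z : G)) this)
  -- `V ⊔ (A ⊓ H)` is elementary abelian
  set B := A ⊓ H with hBdef
  have hVB : IsElementaryAbelian p (closure ((V : Set G) ∪ (B : Set G))) := by
    apply isEA_closure
    · rintro a (ha | ha) b (hb | hb)
      · exact isEA_commute hVEA ha hb
      · exact mem_centralizer_iff.mp (hHV hb.2) a ha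
      · exact (mem_centralizer_iff.mp (hHV ha.2) b hb).symm
      · exact isEA_commute hA.1 ha.1 hb.1
    · rintro a (ha | ha)
      · exact hVEA.2 a ha
      · exact hA.1.2 a ha.1
  have h1 : Nat.card (V ⊔ B : Subgroup G) ≤ Nat.card A := by
    rw [Subgroup.closure_union, Subgroup.closure_eq, Subgroup.closure_eq] at hVB
    exact hA.2 _ hVB
  have h2 : Nat.card (V ⊔ B : Subgroup G) * Nat.card (V ⊓ B : Subgroup G) =
      Nat.card V * Nat.card B := by
    rw [← Cfsg.Lib.Core.card_mul_relIndex (le_sup_left : V ≤ V ⊔ B), relIndex_sup_left, mul_assoc]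
    congr 1
    rw [mul_comm, ← inf_relIndex_right V B, Cfsg.Lib.Core.card_mul_relIndex inf_le_right]
  have h3 : Nat.card (V ⊓ B : Subgroup G) ≤ Nat.card (V ⊓ centralizer (A : Set G) : Subgroup G) := by
    refine card_le_of_le (inf_le_inf_left _ fun b hb => mem_centralizer_iff.mpr fun a ha => ?_)
    exact isEA_commute hA.1 ha hb.1
  have h4 : Nat.card A = Nat.card Ab * Nat.card B := by
    have h : (q.ker).relIndex A = Nat.card Ab := by
      rw [← MonoidHom.comap_bot, relIndex_comap, relIndex_bot_left]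
    have h' : H.relIndex A = Nat.card Ab := by rw [← h, hker]
    rw [← Cfsg.Lib.Core.card_mul_relIndex (inf_le_left : B ≤ A), hBdef, inf_comm,
      inf_relIndex_right, h', mul_comm]
  have hlt : Nat.card Ab * Nat.card (V ⊓ centralizer (A : Set G) : Subgroup G) < Nat.card V :=
    lt_of_le_of_lt (Nat.mul_le_mul_left _ hfixle) hbound
  have h5 := Nat.mul_le_mul h1 h3
  rw [h2, h4] at h5
  have h6 : Nat.card V * Nat.card B ≤
      (Nat.card Ab * Nat.card (V ⊓ centralizer (A : Set G) : Subgroup G)) * Nat.card B := by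
    linarith [h5]
  exact absurd (Nat.le_of_mul_le_mul_right h6 Nat.card_pos) (not_le.mpr hlt)

end Cfsg.Lib.Thompson

namespace Cfsg.Lib.Thompson

open Subgroup Cfsg

universe w

/-- Thompson's normal `p`-complement theorem for odd `p`. -/
theorem thompson_normal_p_complement {p : ℕ} [hp : Fact p.Prime] (hp2 : p ≠ 2) {G : Type w}
    [Group G] [Finite G] (P : Sylow p G) (h : LocalComplements p (P : Subgroup G)) :
    HasNormalPComplement p G := by
  suffices H : ∀ n (G : Type w) [Group G] [Finite G], Nat.card G ≤ n → ∀ P : Sylow p G,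
      LocalComplements p (P : Subgroup G) → HasNormalPComplement p G from H _ G le_rfl P h
  intro n
  induction n with
  | zero =>
    intro G _ _ hn
    exact absurd Nat.card_pos (not_lt.mpr hn)
  | succ n ih =>
    intro G _ _ hn P hP
    by_contra hG
    exact no_minimal_counterexample hp2 (fun H _ _ hlt Q hQ => ih H (by omega) Q hQ) P hP hG

end Cfsg.Lib.Thompson
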