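import Cfsg.Agent.Lib.Thompson.Basic
import Cfsg.Agent.Lib.Fusion.Alperin
import Cfsg.Agent.Lib.Core.Cores
import Cfsg.Agent.Lib.Coprime.Conjugacy

/-!
# Transport of the local hypotheses of Thompson's normal `p`-complement theorem
-/

set_option autoImplicit false

namespace Cfsg.Lib.Thompson

open Subgroup Cfsg
open Cfsg.Lib.Fusion

universe u v

variable {p : ℕ} {G : Type u} [Group G]

/-- The centre of a subgroup, inside the group. -/
abbrev zenter (S : Subgroup G) : Subgroup G := S ⊓ centralizer (S : Set G)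

/-- The hypothesis of Thompson's theorem at a subgroup. -/
def LocalComplements (p : ℕ) (S : Subgroup G) : Prop :=
  HasNormalPComplement p (normalizer (thompsonSubgroupOf p S : Set G)) ∧
    HasNormalPComplement p (centralizer (zenter S : Set G))

theorem map_thompson_eq {H : Type v} [Group H] (e : G ≃* H) :
    (thompsonSubgroup p G).map e.toMonoidHom = thompsonSubgroup p H := by
  refine le_antisymm (map_thompson_le e) fun x hx => ⟨e.symm x, ?_, e.apply_symm_apply x⟩
  exact map_thompson_le e.symm ⟨x, hx, rfl⟩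

theorem map_thompsonSubgroupOf {H : Type v} [Group H] (f : G →* H) (S : Subgroup G)
    (hf : Set.InjOn f S) : (thompsonSubgroupOf p S).map f = thompsonSubgroupOf p (S.map f) := by
  have hinj : Function.Injective (f.subgroupMap S) := fun x y h =>
    Subtype.ext (hf x.2 y.2 (congrArg Subtype.val h))
  let e : S ≃* S.map f :=
    MulEquiv.ofBijective (f.subgroupMap S) ⟨hinj, f.subgroupMap_surjective S⟩
  rw [thompsonSubgroupOf, thompsonSubgroupOf, ← map_thompson_eq e, Subgroup.map_map,
    Subgroup.map_map]
  rfl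

theorem map_zenter {H : Type v} [Group H] (f : G →* H) (S : Subgroup G) (hf : Set.InjOn f S) :
    (zenter S).map f = zenter (S.map f) := by
  ext y
  simp only [zenter, mem_map, mem_inf, mem_centralizer_iff, SetLike.mem_coe]
  constructor
  · rintro ⟨x, ⟨hxS, hx⟩, rfl⟩
    refine ⟨⟨x, hxS, rfl⟩, ?_⟩
    rintro _ ⟨z, hz, rfl⟩
    rw [← map_mul, ← map_mul, hx z hz]
  · rintro ⟨⟨x, hxS, rfl⟩, hx⟩
    refine ⟨x, ⟨hxS, fun z hz => hf (mul_mem hz hxS) (mul_mem hxS hz) ?_⟩, rfl⟩
    rw [map_mul, map_mul]
    exact hx _ ⟨z, hz, rfl⟩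

theorem thompsonSubgroupOf_le (S : Subgroup G) : thompsonSubgroupOf p S ≤ S :=
  map_subtype_le _

theorem normalizer_le_normalizer_thompsonSubgroupOf (S : Subgroup G) :
    normalizer (S : Set G) ≤ normalizer (thompsonSubgroupOf p S : Set G) :=
  Cfsg.Lib.Core.normalizer_le_normalizer_map_char _

theorem normalizer_le_normalizer_zenter (S : Subgroup G) :
    normalizer (S : Set G) ≤ normalizer (zenter S : Set G) := by
  show normalizer (S : Set G) ≤ normalizer ((S ⊓ centralizer (S : Set G) : Subgroup G) : Set G)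
  rw [← Cfsg.Lib.Core.center_map_eq_inf_centralizer]
  exact Cfsg.Lib.Core.normalizer_le_normalizer_map_char _

theorem thompsonSubgroupOf_ne_bot [Finite G] [hp : Fact p.Prime] {S : Subgroup G}
    (hS : IsPGroup p S) (hne : S ≠ ⊥) : thompsonSubgroupOf p S ≠ ⊥ := by
  rw [thompsonSubgroupOf, ne_eq, Subgroup.map_eq_bot_iff_of_injective _ S.subtype_injective]
  refine thompson_ne_bot ?_
  have : Nontrivial S := (nontrivial_iff_ne_bot S).mpr hne
  obtain ⟨n, hn, hn'⟩ := hS.nontrivial_iff_card.mp this
  exact hn' ▸ dvd_pow_self p hn.ne'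

theorem zenter_ne_bot [Finite G] [hp : Fact p.Prime] {S : Subgroup G}
    (hS : IsPGroup p S) (hne : S ≠ ⊥) : zenter S ≠ ⊥ := by
  show S ⊓ centralizer (S : Set G) ≠ ⊥
  rw [← Cfsg.Lib.Core.center_map_eq_inf_centralizer, ne_eq,
    Subgroup.map_eq_bot_iff_of_injective _ S.subtype_injective]
  have : Nontrivial S := (nontrivial_iff_ne_bot S).mpr hne
  exact (nontrivial_iff_ne_bot _).mp hS.center_nontrivial

/-- The hypothesis passes from the image to the source of an injective homomorphism. -/
theorem localComplements_of_injective [Finite G] [hp : Fact p.Prime] {H : Type u} [Group H]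
    [Finite H] (f : H →* G) (hf : Function.Injective f) (S : Subgroup H)
    (h : LocalComplements p (S.map f)) : LocalComplements p S := by
  have hinj : Set.InjOn f S := hf.injOn
  constructor
  · have hmem : ∀ x : normalizer (thompsonSubgroupOf p S : Set H),
        f x ∈ normalizer (thompsonSubgroupOf p (S.map f) : Set G) := fun x => by
      rw [← map_thompsonSubgroupOf f S hinj]
      exact le_normalizer_map f ⟨x, x.2, rfl⟩
    refine hasNormalPComplement_of_injective
      ((f.comp (normalizer (thompsonSubgroupOf p S : Set H)).subtype).codRestrict _ hmem) ?_ h.1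
    exact fun x y hxy => Subtype.ext (hf (congrArg Subtype.val hxy))
  · have hmem : ∀ x : centralizer (zenter S : Set H),
        f x ∈ centralizer (zenter (S.map f) : Set G) := fun x => by
      rw [← map_zenter f S hinj, mem_centralizer_iff]
      rintro _ ⟨z, hz, rfl⟩
      rw [← map_mul, ← map_mul, mem_centralizer_iff.mp x.2 z hz]
    refine hasNormalPComplement_of_injective
      ((f.comp (centralizer (zenter S : Set H)).subtype).codRestrict _ hmem) ?_ h.2
    exact fun x y hxy => Subtype.ext (hf (congrArg Subtype.val hxy))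

theorem localComplements_sylow [Finite G] [hp : Fact p.Prime] (P Q : Sylow p G)
    (h : LocalComplements p (P : Subgroup G)) : LocalComplements p (Q : Subgroup G) := by
  obtain ⟨g, hg⟩ := MulAction.exists_smul_eq G Q P
  refine localComplements_of_injective (MulAut.conj g).toMonoidHom (MulAut.conj g).injective _ ?_
  have he : (Q : Subgroup G).map (MulAut.conj g).toMonoidHom = (P : Subgroup G) := by
    rw [← hg]; rfl
  rw [he]; exact h

/-- The hypothesis passes to the quotient by a normal `p'`-subgroup. -/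
theorem localComplements_map_of_coprime [Finite G] [hp : Fact p.Prime] {H : Type v} [Group H]
    (f : G →* H) (hf : Function.Surjective f) (hker : (Nat.card f.ker).Coprime p)
    {S : Subgroup G} (hS : IsPGroup p S) (h : LocalComplements p S) :
    LocalComplements p (S.map f) := by
  have : Finite H := Finite.of_surjective f hf
  obtain ⟨k, hk⟩ := IsPGroup.iff_card.mp hS
  have hd : Disjoint f.ker S :=
    Cfsg.Lib.Coprime.disjoint_of_coprime_card (by rw [hk]; exact hker.pow_right k)
  have hinj : Set.InjOn f S := fun x hx y hy hxy => by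
    have h1 : x * y⁻¹ ∈ f.ker ⊓ S := ⟨f.mem_ker.mpr (by rw [map_mul, map_inv, hxy, mul_inv_cancel]),
      S.mul_mem hx (S.inv_mem hy)⟩
    rw [disjoint_iff.mp hd, mem_bot, mul_inv_eq_one] at h1
    exact h1
  -- the normalizer of the image is the image of the normalizer
  have hlift : ∀ K : Subgroup G, K ≤ S → ∀ y ∈ normalizer ((K.map f : Subgroup H) : Set H),
      ∃ x ∈ normalizer (K : Set G), f x = y := by
    intro K hKS y hy
    obtain ⟨x, rfl⟩ := hf y
    have hB : K.map (MulAut.conj x).toMonoidHom ≤ f.ker ⊔ K := by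
      rw [sup_comm, ← Subgroup.comap_map_eq, ← map_le_iff_le_comap]
      rintro _ ⟨_, ⟨k, hk, rfl⟩, rfl⟩
      have := (mem_normalizer_iff.mp hy (f k)).mp ⟨k, hk, rfl⟩
      simpa using this
    obtain ⟨j, hj⟩ := IsPGroup.iff_card.mp (hS.to_le hKS)
    have hKN : K ≤ normalizer (f.ker : Set G) := by
      rw [normalizer_eq_top]; exact le_top
    have hKsol : Group.IsSolvable K := by
      have := (hS.to_le hKS).isNilpotent
      infer_instance
    obtain ⟨n, hn, hK⟩ := Cfsg.Lib.Coprime.exists_conj_of_coprime f.ker K _ hKN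
      (by rw [hj]; exact (hker.pow_right j).symm) (Or.inl hKsol) hB
      (Cfsg.Lib.Coprime.card_map_conj K x)
    refine ⟨n⁻¹ * x, mem_normalizer_iff_map_conj_eq.mpr ?_, by
      rw [map_mul, map_inv, f.mem_ker.mp hn, inv_one, one_mul]⟩
    show K.map (MulAut.conj (n⁻¹ * x)).toMonoidHom = K
    rw [← Cfsg.Lib.Coprime.map_conj_conj, hK, Cfsg.Lib.Coprime.map_conj_conj, inv_mul_cancel,
      Cfsg.Lib.Coprime.map_conj_one]
  constructor
  · rw [← map_thompsonSubgroupOf f S hinj]
    have hmem : ∀ x : normalizer (thompsonSubgroupOf p S : Set G),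
        f x ∈ normalizer (((thompsonSubgroupOf p S).map f : Subgroup H) : Set H) :=
      fun x => le_normalizer_map f ⟨x, x.2, rfl⟩
    refine hasNormalPComplement_of_surjective
      ((f.comp (normalizer (thompsonSubgroupOf p S : Set G)).subtype).codRestrict _ hmem) ?_ h.1
    rintro ⟨y, hy⟩
    obtain ⟨x, hx, rfl⟩ := hlift _ (thompsonSubgroupOf_le S) y hy
    exact ⟨⟨x, hx⟩, rfl⟩
  · rw [← map_zenter f S hinj]
    have hmem : ∀ x : centralizer (zenter S : Set G),
        f x ∈ centralizer (((zenter S).map f : Subgroup H) : Set H) := fun x => by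
      rw [mem_centralizer_iff]
      rintro _ ⟨z, hz, rfl⟩
      rw [← map_mul, ← map_mul, mem_centralizer_iff.mp x.2 z hz]
    refine hasNormalPComplement_of_surjective
      ((f.comp (centralizer (zenter S : Set G)).subtype).codRestrict _ hmem) ?_ h.2
    rintro ⟨y, hy⟩
    obtain ⟨x, hx, rfl⟩ := hlift _ inf_le_left y (centralizer_le_normalizer _ hy)
    refine ⟨⟨x, mem_centralizer_iff.mpr fun z hz => ?_⟩, rfl⟩
    have hz' := (mem_normalizer_iff.mp hx z).mp hz
    have h1 : f (x * z * x⁻¹) = f z := by
      rw [map_mul, map_mul, map_inv, mul_inv_eq_iff_eq_mul]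
      exact (mem_centralizer_iff.mp hy _ ⟨z, hz, rfl⟩).symm
    exact (mul_inv_eq_iff_eq_mul.mp (hinj (inf_le_left (a := S) hz') (inf_le_left (a := S) hz) h1)).symm

end Cfsg.Lib.Thompson
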