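import Mathlib
import Cfsg.Prelude.Def_Transfer
import Cfsg.Prelude.Def_PLocal

/-! Elementary facts on elementary abelian subgroups of largest order and the Thompson subgroup. -/

set_option autoImplicit false

namespace Cfsg.Lib.Thompson

open Subgroup Cfsg
open scoped Pointwise

universe u v

variable {G : Type u} [Group G] {p : ℕ}

theorem isElementaryAbelian_bot : IsElementaryAbelian p (⊥ : Subgroup G) :=
  ⟨⟨⟨fun a b => Subsingleton.elim _ _⟩⟩, fun a ha => by rw [mem_bot.mp ha, one_pow]⟩

theorem isEA_commute {A : Subgroup G} (hA : IsElementaryAbelian p A) {a b : G} (ha : a ∈ A)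
    (hb : b ∈ A) : Commute a b :=
  congrArg Subtype.val (hA.1.is_comm.comm ⟨a, ha⟩ ⟨b, hb⟩)

theorem isEA_closure {s : Set G} (hc : ∀ a ∈ s, ∀ b ∈ s, Commute a b) (hp : ∀ a ∈ s, a ^ p = 1) :
    IsElementaryAbelian p (closure s) := by
  have hcc : ∀ x ∈ closure s, ∀ y ∈ closure s, Commute x y := fun x hx y hy =>
    closure_induction₂ (p := fun a b _ _ => Commute a b) (fun a b ha hb => hc a ha b hb)
      (fun a _ => Commute.one_left a) (fun a _ => Commute.one_right a)
      (fun a b c _ _ _ h1 h2 => h1.mul_left h2) (fun a b c _ _ _ h1 h2 => h1.mul_right h2)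
      (fun a b _ _ h => h.inv_left) (fun a b _ _ h => h.inv_right) hx hy
  refine ⟨⟨⟨fun a b => Subtype.ext (hcc a a.2 b b.2).eq⟩⟩, fun a ha => ?_⟩
  induction ha using closure_induction with
  | mem x hx => exact hp x hx
  | one => exact one_pow p
  | mul x y hx hy h1 h2 => rw [(hcc x hx y hy).mul_pow, h1, h2, one_mul]
  | inv x _ h1 => rw [inv_pow, h1, inv_one]

theorem exists_mem_maxEA (p : ℕ) (G : Type u) [Group G] [Finite G] :
    ∃ A : Subgroup G, A ∈ maxElementaryAbelianSubgroups p G := by
  haveI : Finite (Subgroup G) := Finite.of_injective ((↑) : Subgroup G → Set G) SetLike.coe_injective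
  obtain ⟨A, hA, hmax⟩ := (Set.toFinite {A : Subgroup G | IsElementaryAbelian p A}).exists_maximalFor
    (fun A : Subgroup G => Nat.card A) _ ⟨⊥, isElementaryAbelian_bot⟩
  exact ⟨A, hA, fun B hB => (le_total (Nat.card B) (Nat.card A)).elim id (fun h => hmax hB h)⟩

theorem isEA_map {H : Type v} [Group H] (f : G →* H) {A : Subgroup G} (hA : IsElementaryAbelian p A) :
    IsElementaryAbelian p (A.map f) := by
  refine ⟨⟨⟨?_⟩⟩, ?_⟩
  · rintro ⟨_, a, ha, rfl⟩ ⟨_, b, hb, rfl⟩
    exact Subtype.ext ((isEA_commute hA ha hb).map f).eq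
  · rintro _ ⟨a, ha, rfl⟩
    rw [← map_pow, hA.2 a ha, map_one]

theorem isEA_subgroupOf {A : Subgroup G} (hA : IsElementaryAbelian p A) (U : Subgroup G) :
    IsElementaryAbelian p (A.subgroupOf U) := by
  refine ⟨⟨⟨?_⟩⟩, fun a ha => Subtype.ext (hA.2 _ (mem_subgroupOf.mp ha))⟩
  rintro ⟨a, ha⟩ ⟨b, hb⟩
  exact Subtype.ext (Subtype.ext (isEA_commute hA (mem_subgroupOf.mp ha) (mem_subgroupOf.mp hb)).eq)

theorem map_mem_maxEA {H : Type v} [Group H] (e : G ≃* H) {A : Subgroup G}
    (hA : A ∈ maxElementaryAbelianSubgroups p G) :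
    A.map e.toMonoidHom ∈ maxElementaryAbelianSubgroups p H := by
  refine ⟨isEA_map _ hA.1, fun B hB => ?_⟩
  rw [card_map_of_injective e.injective]
  have h := hA.2 _ (isEA_map e.symm.toMonoidHom hB)
  rwa [card_map_of_injective e.symm.injective] at h

theorem map_thompson_le {H : Type v} [Group H] (e : G ≃* H) :
    (thompsonSubgroup p G).map e.toMonoidHom ≤ thompsonSubgroup p H := by
  rw [thompsonSubgroup, map_le_iff_le_comap, sSup_le_iff]
  exact fun A hA => map_le_iff_le_comap.mp (le_sSup (map_mem_maxEA e hA))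

instance thompsonSubgroup_characteristic (p : ℕ) (G : Type u) [Group G] :
    (thompsonSubgroup p G).Characteristic :=
  characteristic_iff_map_le.mpr fun e => map_thompson_le e

theorem thompson_ne_bot [Finite G] [hp : Fact p.Prime] (hd : p ∣ Nat.card G) :
    thompsonSubgroup p G ≠ ⊥ := by
  intro h
  obtain ⟨A, hA⟩ := exists_mem_maxEA p G
  obtain ⟨x, hx⟩ := exists_prime_orderOf_dvd_card' p hd
  have hxA : A = ⊥ := le_bot_iff.mp (h ▸ le_sSup hA)
  have := hA.2 (closure {x}) (isEA_closure (by simp) (by simp [← hx, pow_orderOf_eq_one]))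
  rw [← zpowers_eq_closure, Nat.card_zpowers, hx, hxA, card_bot] at this
  exact absurd this (not_le.mpr hp.out.one_lt)

theorem exists_sylow_ge_of_isEA [Finite G] [hp : Fact p.Prime] {A : Subgroup G}
    (hA : IsElementaryAbelian p A) : ∃ S : Sylow p G, A ≤ (S : Subgroup G) :=
  IsPGroup.exists_le_sylow (fun a => ⟨1, Subtype.ext (by rw [pow_one]; exact hA.2 _ a.2)⟩)

/-- If `U` contains a largest elementary abelian subgroup of `G` then its Thompson subgroup is generated by those it contains. -/
theorem thompsonSubgroupOf_eq [Finite G] (U : Subgroup G)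
    (h : ∃ A ∈ maxElementaryAbelianSubgroups p G, A ≤ U) :
    thompsonSubgroupOf p U = sSup {A | A ∈ maxElementaryAbelianSubgroups p G ∧ A ≤ U} := by
  obtain ⟨A₀, hA₀, hA₀U⟩ := h
  apply le_antisymm
  · rw [thompsonSubgroupOf, thompsonSubgroup, map_le_iff_le_comap, sSup_le_iff]
    intro B hB
    rw [← map_le_iff_le_comap]
    refine le_sSup ⟨⟨isEA_map _ hB.1, fun C hC => ?_⟩, map_subtype_le _⟩
    rw [card_map_of_injective U.subtype_injective]
    refine (hA₀.2 C hC).trans ?_
    rw [← Nat.card_congr (subgroupOfEquivOfLe hA₀U).toEquiv]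
    exact hB.2 _ (isEA_subgroupOf hA₀.1 U)
  · rw [sSup_le_iff]
    rintro A ⟨hA, hAU⟩
    rw [← map_subgroupOf_eq_of_le hAU, thompsonSubgroupOf]
    refine map_mono (le_sSup ⟨isEA_subgroupOf hA.1 U, fun B hB => ?_⟩)
    have h := hA.2 _ (isEA_map U.subtype hB)
    rw [card_map_of_injective U.subtype_injective] at h
    rwa [Nat.card_congr (subgroupOfEquivOfLe hAU).toEquiv]

theorem exists_maxEA_le_sylow [Finite G] [hp : Fact p.Prime] (S : Sylow p G) :
    ∃ A ∈ maxElementaryAbelianSubgroups p G, A ≤ (S : Subgroup G) := by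
  obtain ⟨A, hA⟩ := exists_mem_maxEA p G
  obtain ⟨T, hT⟩ := exists_sylow_ge_of_isEA hA.1
  obtain ⟨g, hg⟩ := MulAction.exists_smul_eq G T S
  refine ⟨A.map (MulAut.conj g).toMonoidHom, map_mem_maxEA _ hA, ?_⟩
  rintro _ ⟨a, ha, rfl⟩
  rw [← hg, Sylow.coe_subgroup_smul]
  exact smul_mem_pointwise_smul a (MulAut.conj g) _ (hT ha)

/-- An element of order dividing `p` centralizing a largest elementary abelian subgroup lies in it. -/
theorem mem_of_commute [Finite G] {A : Subgroup G} (hA : A ∈ maxElementaryAbelianSubgroups p G) {x : G}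
    (hx : x ^ p = 1) (hc : ∀ a ∈ A, Commute x a) : x ∈ A := by
  have hB : IsElementaryAbelian p (closure ((A : Set G) ∪ {x})) := by
    apply isEA_closure
    · rintro a (ha | rfl) b (hb | rfl)
      · exact isEA_commute hA.1 ha hb
      · exact (hc a ha).symm
      · exact hc b hb
      · exact Commute.refl _
    · rintro a (ha | rfl)
      · exact hA.1.2 a ha
      · exact hx
  have hle : A ≤ closure ((A : Set G) ∪ {x}) := fun a ha => subset_closure (Or.inl ha)
  have heq := Subgroup.eq_of_le_of_card_ge hle (hA.2 _ hB)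
  rw [heq]
  exact subset_closure (Or.inr rfl)

theorem sInf_maxEA_eq [Finite G] :
    sInf (maxElementaryAbelianSubgroups p G) = omegaCenterThompson p G ∧
      omegaCenterThompson p G = omegaOne p (centralizer (thompsonSubgroup p G : Set G)) := by
  obtain ⟨A₀, hA₀⟩ := exists_mem_maxEA p G
  have h1 : sInf (maxElementaryAbelianSubgroups p G) ≤ omegaCenterThompson p G := by
    intro x hx
    rw [mem_sInf] at hx
    refine subset_closure ⟨⟨le_sSup hA₀ (hx A₀ hA₀), ?_⟩, hA₀.1.2 x (hx A₀ hA₀)⟩
    have : thompsonSubgroup p G ≤ centralizer ({x} : Set G) := by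
      rw [thompsonSubgroup, sSup_le_iff]
      intro A hA a ha
      rw [mem_centralizer_singleton_iff]
      first
        | exact (isEA_commute hA.1 ha (hx A hA)).eq
        | exact (isEA_commute hA.1 (hx A hA) ha).eq
    show x ∈ centralizer (thompsonSubgroup p G : Set G)
    rw [mem_centralizer_iff]
    intro y hy
    have := mem_centralizer_singleton_iff.mp (this hy)
    first | exact this | exact this.symm
  have h2 : omegaCenterThompson p G ≤ omegaOne p (centralizer (thompsonSubgroup p G : Set G)) :=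
    closure_mono fun x hx => ⟨hx.1.2, hx.2⟩
  have h3 : omegaOne p (centralizer (thompsonSubgroup p G : Set G)) ≤
      sInf (maxElementaryAbelianSubgroups p G) := by
    refine le_sInf fun A hA => (closure_le _).mpr fun x hx => ?_
    exact mem_of_commute hA hx.2 fun a ha => (mem_centralizer_iff.mp hx.1 a (le_sSup hA ha)).symm
  exact ⟨le_antisymm h1 (h2.trans h3), le_antisymm h2 (h3.trans h1)⟩

end Cfsg.Lib.Thompson
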