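import Cfsg.Agent.Lib.Thompson.NormalComplement
import Mathlib.GroupTheory.FixedPointFree

/-!
# Operators with nilpotent invariant subgroups; fixed-point-free automorphisms of prime order

A finite group with a set of automorphisms such that all proper invariant subgroups are nilpotent and
invariant Sylow subgroups exist is solvable; a finite group with a fixed-point-free automorphism of
prime order is nilpotent (Thompson).
-/

set_option autoImplicit false

namespace Cfsg.Lib.Thompson

open Subgroup Cfsg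
open scoped Pointwise

universe u v

/-- A finite nilpotent group has a normal `p`-complement. -/
theorem hasNormalPComplement_of_isNilpotent {G : Type u} [Group G] [Finite G] {p : ℕ}
    [hp : Fact p.Prime] [Group.IsNilpotent G] : HasNormalPComplement p G := by
  refine Cfsg.Lib.Fusion.hasNormalPComplement_of_normal (pPrimeCore p G)
    (Cfsg.Lib.Core.pPrimeCore_coprime p G) (IsPGroup.of_card
      (Nat.eq_prime_pow_of_unique_prime_dvd (p := p) Nat.card_pos.ne' fun {d} hd hdvd => ?_))
  by_contra hne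
  have : Fact d.Prime := ⟨hd⟩
  obtain ⟨Q⟩ : Nonempty (Sylow d G) := inferInstance
  have hQn : (Q : Subgroup G).Normal :=
    (Group.isNilpotent_of_finite_tfae.out 0 3 rfl rfl).mp ‹Group.IsNilpotent G› d this Q
  obtain ⟨k, hk⟩ := IsPGroup.iff_card.mp Q.2
  have hle : (Q : Subgroup G) ≤ pPrimeCore p G :=
    Cfsg.Lib.Core.le_pPrimeCore' hQn (by
      rw [hk]; exact ((Nat.coprime_primes hd hp.out).mpr hne).pow_left k)
  exact Q.not_dvd_index (dvd_trans hdvd (index_dvd_of_le hle))

section Operators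

variable {ι : Type v}

/-- A subgroup mapped to itself by each of the given automorphisms. -/
def OpInvariant {G : Type u} [Group G] (Φ : ι → G ≃* G) (H : Subgroup G) : Prop :=
  ∀ i, H.map (Φ i).toMonoidHom = H

/-- All proper invariant subgroups are nilpotent and invariant Sylow subgroups exist. -/
def NilpotentBelow {G : Type u} [Group G] (Φ : ι → G ≃* G) : Prop :=
  (∀ H : Subgroup G, OpInvariant Φ H → H ≠ ⊤ → Group.IsNilpotent H) ∧
    ∀ (p : ℕ), p.Prime → ∃ P : Sylow p G, OpInvariant Φ (P : Subgroup G)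

variable {G : Type u} [Group G] {Φ : ι → G ≃* G}

theorem OpInvariant.normalizer {K : Subgroup G} (h : OpInvariant Φ K) :
    OpInvariant Φ (normalizer (K : Set G)) := fun i => by
  rw [map_equiv_normalizer_eq, h i]

theorem OpInvariant.centralizer {K : Subgroup G} (h : OpInvariant Φ K) :
    OpInvariant Φ (centralizer (K : Set G)) := fun i => by
  ext y
  simp only [mem_map, mem_centralizer_iff, SetLike.mem_coe]
  constructor
  · rintro ⟨x, hx, rfl⟩ z hz
    rw [← h i] at hz
    obtain ⟨w, hw, rfl⟩ := hz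
    rw [← map_mul, ← map_mul, hx w hw]
  · intro hy
    refine ⟨(Φ i).symm y, fun z hz => (Φ i).injective ?_, (Φ i).apply_symm_apply y⟩
    rw [map_mul, map_mul, (Φ i).apply_symm_apply]
    exact hy _ ((h i).le ⟨z, hz, rfl⟩)

theorem OpInvariant.thompson {K : Subgroup G} (h : OpInvariant Φ K) (p : ℕ) :
    OpInvariant Φ (thompsonSubgroupOf p K) := fun i => by
  rw [map_thompsonSubgroupOf _ _ (Φ i).injective.injOn, h i]

theorem OpInvariant.zenter {K : Subgroup G} (h : OpInvariant Φ K) :
    OpInvariant Φ (Cfsg.Lib.Thompson.zenter K) := fun i => by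
  rw [map_zenter _ _ (Φ i).injective.injOn, h i]

theorem opInvariant_pResidual (p : ℕ) : OpInvariant Φ (pResidual p G) := fun i =>
  Cfsg.Lib.Fusion.map_pResidual_equiv _

/-- Without proper invariant normal subgroups the group is nilpotent. -/
theorem isNilpotent_of_no_invariant_normal [Finite G] (hb : NilpotentBelow Φ)
    (hno : ∀ N : Subgroup G, N.Normal → OpInvariant Φ N → N = ⊥ ∨ N = ⊤) :
    Group.IsNilpotent G := by
  obtain hG | ⟨r, hr, hr2, hd⟩ : IsPGroup 2 G ∨ ∃ r, r.Prime ∧ r ≠ 2 ∧ r ∣ Nat.card G := by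
    by_cases h : ∃ r, r.Prime ∧ r ≠ 2 ∧ r ∣ Nat.card G
    · exact Or.inr h
    · push Not at h
      exact Or.inl (IsPGroup.of_card (Nat.eq_prime_pow_of_unique_prime_dvd Nat.card_pos.ne'
        fun {d} hd hdvd => by_contra fun hne => h d hd hne hdvd))
  · have := Fact.mk Nat.prime_two
    exact hG.isNilpotent
  have : Fact r.Prime := ⟨hr⟩
  obtain ⟨R, hR⟩ := hb.2 r hr
  have hR0 : (R : Subgroup G) ≠ ⊥ := R.ne_bot_of_dvd_card hd
  by_contra hnil
  have hkey : ∀ K : Subgroup G, K ≤ (R : Subgroup G) → K ≠ ⊥ → OpInvariant Φ K →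
      normalizer (K : Set G) ≠ ⊤ := by
    intro K hKR hK0 hK htop
    rcases hno K (normalizer_eq_top_iff.mp htop) hK with h | h
    · exact hK0 h
    · refine hnil (Group.isNilpotent_congr Subgroup.topEquiv |>.mp ?_)
      have hp : IsPGroup r (⊤ : Subgroup G) := h ▸ R.2.to_le hKR
      exact hp.isNilpotent
  have hJ := hkey _ (thompsonSubgroupOf_le _) (thompsonSubgroupOf_ne_bot R.2 hR0) (hR.thompson r)
  have hZ := hkey _ inf_le_left (zenter_ne_bot R.2 hR0) hR.zenter
  have hC : centralizer (zenter (R : Subgroup G) : Set G) ≠ ⊤ := fun h =>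
    hZ (top_le_iff.mp (h ▸ centralizer_le_normalizer _))
  have hn1 : HasNormalPComplement r (normalizer (thompsonSubgroupOf r (R : Subgroup G) : Set G)) := by
    have := hb.1 _ (hR.thompson r).normalizer hJ
    exact hasNormalPComplement_of_isNilpotent
  have hn2 : HasNormalPComplement r (centralizer (zenter (R : Subgroup G) : Set G)) := by
    have := hb.1 _ hR.zenter.centralizer hC
    exact hasNormalPComplement_of_isNilpotent
  have hnpc := thompson_normal_p_complement hr2 R ⟨hn1, hn2⟩
  rcases hno _ (Cfsg.Lib.Fusion.pResidual_normal r G) (opInvariant_pResidual r) with h | h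
  · obtain ⟨k, hk⟩ := Cfsg.Lib.Fusion.index_pResidual_eq_pow (p := r) (G := G)
    rw [h, index_bot] at hk
    exact hnil (IsPGroup.of_card hk).isNilpotent
  · have hc := Cfsg.Lib.Fusion.hasNormalPComplement_iff_coprime.mp hnpc
    rw [h, card_top] at hc
    exact hr.coprime_iff_not_dvd.mp hc.symm hd

/-- The hypothesis passes to quotients by invariant normal subgroups. -/
theorem nilpotentBelow_quotient [Finite G] (hb : NilpotentBelow Φ) (N : Subgroup G) [N.Normal]
    (hN : OpInvariant Φ N) :
    NilpotentBelow (fun i => QuotientGroup.congr N N (Φ i) (hN i)) := by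
  set q := QuotientGroup.mk' N with hq
  have hqs : Function.Surjective q := QuotientGroup.mk'_surjective N
  have hcomm : ∀ i, (QuotientGroup.congr N N (Φ i) (hN i)).toMonoidHom.comp q =
      q.comp (Φ i).toMonoidHom := fun i => MonoidHom.ext fun x => rfl
  constructor
  · intro H hH hHtop
    have hinv : OpInvariant Φ (H.comap q) := fun i => by
      refine le_antisymm ?_ ?_
      · rintro _ ⟨x, hx, rfl⟩
        rw [mem_comap]
        exact (hH i).le ⟨q x, hx, DFunLike.congr_fun (hcomm i) x⟩
      · intro y hy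
        refine ⟨(Φ i).symm y, ?_, (Φ i).apply_symm_apply y⟩
        obtain ⟨z, hz, hzy⟩ := (hH i).ge (mem_comap.mp hy)
        obtain ⟨w, rfl⟩ := hqs z
        rw [SetLike.mem_coe, mem_comap]
        have : q w = q ((Φ i).symm y) := (QuotientGroup.congr N N (Φ i) (hN i)).injective (by
          refine hzy.trans ?_
          show q y = q ((Φ i) ((Φ i).symm y))
          rw [(Φ i).apply_symm_apply])
        rw [← this]; exact hz
    have hnil := hb.1 _ hinv fun h => hHtop (by
      rw [← map_comap_eq_self_of_surjective hqs H, h, map_top_of_surjective q hqs])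
    rw [← map_comap_eq_self_of_surjective hqs H]
    exact Cfsg.Lib.Core.isNilpotent_map hnil q
  · intro p hp
    have : Fact p.Prime := ⟨hp⟩
    obtain ⟨P, hP⟩ := hb.2 p hp
    refine ⟨P.mapSurjective hqs, fun i => ?_⟩
    rw [P.coe_mapSurjective hqs, Subgroup.map_map, hcomm, ← Subgroup.map_map, hP i]

theorem isSolvable_of_nilpotentBelow {ι : Type v} :
    ∀ {G : Type u} [Group G] [Finite G] (Φ : ι → G ≃* G), NilpotentBelow Φ → Group.IsSolvable G := by
  intro G iG fG Φ hb
  induction hn : Nat.card G using Nat.strong_induction_on generalizing G with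
  | _ n ih =>
  by_cases hno : ∀ N : Subgroup G, N.Normal → OpInvariant Φ N → N = ⊥ ∨ N = ⊤
  · have := isNilpotent_of_no_invariant_normal hb hno
    infer_instance
  push Not at hno
  obtain ⟨N, hN, hNinv, hN0, hNtop⟩ := hno
  have := hb.1 N hNinv hNtop
  have hsN : Group.IsSolvable N := inferInstance
  have hsQ : Group.IsSolvable (G ⧸ N) :=
    ih _ (hn ▸ Cfsg.Lib.Core.card_quotient_lt hN0) _ (nilpotentBelow_quotient hb N hNinv) rfl
  exact Group.isSolvable_of_ker_le_range N.subtype (QuotientGroup.mk' N)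
    (by rw [QuotientGroup.ker_mk', range_subtype])

end Operators

section FixedPointFree

variable {G : Type u} [Group G]

theorem coe_iterate_restrict {H : Subgroup G} (φ : G ≃* G) (ψ : H ≃* H)
    (hψ : ∀ x : H, (ψ x : G) = φ x) (n : ℕ) (x : H) : ((ψ^[n] x : H) : G) = φ^[n] x := by
  induction n with
  | zero => rfl
  | succ n ih => rw [Function.iterate_succ_apply', Function.iterate_succ_apply', hψ, ih]

theorem exists_restrict_fpf {φ : G ≃* G} {H : Subgroup G} (hH : H.map φ.toMonoidHom = H)
    (hφ : MonoidHom.FixedPointFree φ) {p : ℕ} (hp : φ^[p] = id) :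
    ∃ ψ : H ≃* H, (∀ x : H, (ψ x : G) = φ x) ∧ MonoidHom.FixedPointFree ψ ∧ ψ^[p] = id := by
  let ψ : H ≃* H := (φ.subgroupMap H).trans (MulEquiv.subgroupCongr hH)
  have hψ : ∀ x : H, (ψ x : G) = φ x := fun x => rfl
  refine ⟨ψ, hψ, fun x hx => Subtype.ext (hφ _ ?_), funext fun x => Subtype.ext ?_⟩
  · rw [← hψ, hx]
  · rw [coe_iterate_restrict φ ψ hψ, hp]; rfl

theorem quotient_congr_fpf [Finite G] {φ : G ≃* G} (N : Subgroup G) [N.Normal]
    (hN : N.map φ.toMonoidHom = N) (hφ : MonoidHom.FixedPointFree φ) {p : ℕ} (hp : φ^[p] = id) :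
    MonoidHom.FixedPointFree (QuotientGroup.congr N N φ hN) ∧
      (QuotientGroup.congr N N φ hN)^[p] = id := by
  set ψ := QuotientGroup.congr N N φ hN with hψ
  constructor
  · have hs : Function.Surjective (MonoidHom.commutatorMap ψ) := by
      intro y
      obtain ⟨g, rfl⟩ := QuotientGroup.mk_surjective y
      obtain ⟨x, rfl⟩ := hφ.commutatorMap_surjective g
      exact ⟨x, rfl⟩
    intro y hy
    refine (Finite.injective_iff_surjective.mpr hs) (a₁ := y) (a₂ := 1) ?_
    simp [MonoidHom.commutatorMap, hy]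
  · refine funext fun y => ?_
    obtain ⟨g, rfl⟩ := QuotientGroup.mk_surjective y
    have h : ∀ n, ψ^[n] (g : G ⧸ N) = ((φ^[n] g : G) : G ⧸ N) := fun n => by
      induction n with
      | zero => rfl
      | succ n ih => rw [Function.iterate_succ_apply', Function.iterate_succ_apply', ih]; rfl
    rw [h, hp]; rfl

theorem exists_invariant_sylow_of_fpf [Finite G] {φ : G ≃* G} (hφ : MonoidHom.FixedPointFree φ)
    (q : ℕ) [Fact q.Prime] : ∃ P : Sylow q G, (P : Subgroup G).map φ.toMonoidHom = P := by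
  obtain ⟨P⟩ : Nonempty (Sylow q G) := inferInstance
  obtain ⟨g, hg⟩ := MulAction.exists_smul_eq G P
    (P.mapSurjective (f := φ.toMonoidHom) φ.surjective)
  have hg' : (P : Subgroup G).map (MulAut.conj g).toMonoidHom =
      (P : Subgroup G).map φ.toMonoidHom := congrArg (fun S : Sylow q G => (S : Subgroup G)) hg
  obtain ⟨k, hk⟩ := hφ.commutatorMap_surjective g⁻¹
  rw [MonoidHom.commutatorMap_apply, div_eq_mul_inv, eq_inv_iff_mul_eq_one] at hk
  refine ⟨k⁻¹ • P, ?_⟩
  show ((P : Subgroup G).map (MulAut.conj k⁻¹).toMonoidHom).map φ.toMonoidHom =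
    (P : Subgroup G).map (MulAut.conj k⁻¹).toMonoidHom
  have hcomp : φ.toMonoidHom.comp (MulAut.conj k⁻¹).toMonoidHom =
      (MulAut.conj (φ k⁻¹)).toMonoidHom.comp φ.toMonoidHom := by
    ext x; simp [mul_assoc]
  rw [Subgroup.map_map, hcomp, ← Subgroup.map_map, ← hg', Cfsg.Lib.Coprime.map_conj_conj]
  congr
  rw [map_inv]
  calc (φ k)⁻¹ * g = k⁻¹ * (k * (φ k)⁻¹ * g) := by group
    _ = k⁻¹ := by rw [hk, mul_one]

open scoped IsMulCommutative in
/-- An invariant subgroup of coprime order centralizes an invariant abelian normal subgroup. -/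
theorem le_centralizer_of_fpf [Finite G] {φ : G ≃* G} (hφ : MonoidHom.FixedPointFree φ) {p : ℕ}
    (hp : p.Prime) (hpow : φ^[p] = id) {V Q : Subgroup G} [V.Normal] [IsMulCommutative V]
    (hV : V.map φ.toMonoidHom = V) (hQ : Q.map φ.toMonoidHom = Q)
    (hcop : (Nat.card Q).Coprime (Nat.card V)) : Q ≤ centralizer (V : Set G) := by
  classical
  have := Fintype.ofFinite Q
  obtain ⟨ψ, hψ, hψf, hψp⟩ := exists_restrict_fpf hV hφ hpow
  let c : G →* MulAut V := MulAut.conjNormal
  have hiter : ∀ (i : ℕ) (h : G) (v : V), ψ^[i] (c h v) = c (φ^[i] h) (ψ^[i] v) := by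
    intro i h v
    induction i with
    | zero => rfl
    | succ i ih =>
      rw [Function.iterate_succ_apply', Function.iterate_succ_apply', Function.iterate_succ_apply', ih]
      apply Subtype.ext
      simp [c, hψ, MulAut.conjNormal_apply]
  have hQi : ∀ (i : ℕ), ∀ h ∈ Q, φ^[i] h ∈ Q := by
    intro i h hh
    induction i with
    | zero => exact hh
    | succ i ih => rw [Function.iterate_succ_apply']; exact hQ.le ⟨_, ih, rfl⟩
  have hzero : ∀ (v : V) (h : G), ∏ i ∈ Finset.range p, c (h⁻¹ * φ^[i] h) (ψ^[i] v) = 1 := by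
    intro v h
    have h1 : ∏ i ∈ Finset.range p, ψ^[i] (c h v) = 1 := hψf.prod_pow_eq_one hψp (c h v)
    simp only [hiter] at h1
    have h2 := congrArg (c h⁻¹) h1
    rw [map_prod, map_one] at h2
    simpa only [map_mul, MulAut.mul_apply] using h2
  intro q hq
  rw [mem_centralizer_iff]
  intro v hv
  let v' : V := ⟨v, hv⟩
  let f : ℕ → V := fun i => ∏ h : Q, c ((h : G)⁻¹ * φ^[i] (h : G)) (ψ^[i] v')
  have hf : ∏ i ∈ Finset.range p, f i = 1 := by
    rw [Finset.prod_comm]
    exact Finset.prod_eq_one fun h _ => hzero v' h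
  obtain ⟨m, hm⟩ := Nat.exists_eq_succ_of_ne_zero hp.ne_zero
  have hfix : ∀ i, i + 1 < p → c q (f (i + 1)) = f (i + 1) := by
    intro i hi
    let d : Q → Q := fun h => ⟨(h : G)⁻¹ * φ^[i + 1] (h : G), Q.mul_mem (Q.inv_mem h.2) (hQi _ _ h.2)⟩
    have hd : Function.Bijective d := by
      refine Finite.injective_iff_bijective.mp fun a b hab => ?_
      have h1 : φ^[i + 1] ((a : G) * (b : G)⁻¹) = (a : G) * (b : G)⁻¹ := by
        have := congrArg Subtype.val hab
        simp only [d] at this
        rw [iterate_map_mul, iterate_map_inv]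
        calc φ^[i + 1] (a : G) * (φ^[i + 1] (b : G))⁻¹
            = (a : G) * ((a : G)⁻¹ * φ^[i + 1] (a : G)) * (φ^[i + 1] (b : G))⁻¹ := by group
          _ = (a : G) * (b : G)⁻¹ := by rw [this]; group
      have h2 : Function.IsPeriodicPt φ ((i + 1).gcd p) ((a : G) * (b : G)⁻¹) :=
        Function.IsPeriodicPt.gcd h1 (by
          show φ^[p] _ = _
          rw [hpow]; rfl)
      have hg : (i + 1).gcd p = 1 :=
        ((hp.coprime_iff_not_dvd.mpr (Nat.not_dvd_of_pos_of_lt (Nat.succ_pos i) hi)).symm)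
      rw [hg] at h2
      exact Subtype.ext (mul_inv_eq_one.mp (hφ _ h2))
    have h3 : f (i + 1) = ∏ k : Q, c (k : G) (ψ^[i + 1] v') :=
      Fintype.prod_bijective d hd _ _ fun h => rfl
    rw [h3, map_prod]
    refine Fintype.prod_equiv (Equiv.mulLeft ⟨q, hq⟩) _ _ fun k => ?_
    simp [map_mul]
  rw [hm, Finset.prod_range_succ'] at hf
  have hf0 : f 0 = v' ^ Nat.card Q := by
    simp [f, Nat.card_eq_fintype_card]
  have hprod : c q (∏ i ∈ Finset.range m, f (i + 1)) = ∏ i ∈ Finset.range m, f (i + 1) := by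
    rw [map_prod]
    exact Finset.prod_congr rfl fun i hi => hfix i (by have := Finset.mem_range.mp hi; omega)
  have hv0 : c q (f 0) = f 0 := by
    rw [eq_inv_of_mul_eq_one_right hf, map_inv, hprod]
  rw [hf0, map_pow] at hv0
  have := (powCoprime hcop.symm).injective hv0
  have h' : q * v * q⁻¹ = v := congrArg Subtype.val this
  exact (mul_inv_eq_iff_eq_mul.mp h').symm

/-- Thompson: a finite group with a fixed-point-free automorphism of prime order is nilpotent. -/
theorem isNilpotent_of_fpf {p : ℕ} (hp : p.Prime) : ∀ {G : Type u} [Group G] [Finite G] (φ : G ≃* G),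
    MonoidHom.FixedPointFree φ → φ^[p] = id → Group.IsNilpotent G := by
  intro G iG fG φ hφ hpow
  induction hn : Nat.card G using Nat.strong_induction_on generalizing G with
  | _ n ih =>
  let Φ : Unit → G ≃* G := fun _ => φ
  have hb : NilpotentBelow Φ := by
    refine ⟨fun H hH htop => ?_, fun q hq => ?_⟩
    · obtain ⟨ψ, -, hψ, hψp⟩ := exists_restrict_fpf (hH ()) hφ hpow
      exact ih _ (hn ▸ Cfsg.Lib.Core.lt_card_of_ne_top htop) ψ hψ hψp rfl
    · have : Fact q.Prime := ⟨hq⟩
      obtain ⟨P, hP⟩ := exists_invariant_sylow_of_fpf hφ q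
      exact ⟨P, fun _ => hP⟩
  have hsol : Group.IsSolvable G := isSolvable_of_nilpotentBelow Φ hb
  rcases subsingleton_or_nontrivial G with hG | hG
  · infer_instance
  -- an invariant normal elementary abelian subgroup
  obtain ⟨k, hk0, hk1⟩ : ∃ k, derivedSeries G k ≠ ⊥ ∧ derivedSeries G (k + 1) = ⊥ := by
    by_contra h
    push Not at h
    obtain ⟨k, hk⟩ := hsol.solvable
    have : ∀ j, derivedSeries G j ≠ ⊥ := fun j => by
      induction j with
      | zero => rw [derivedSeries_zero]; exact top_ne_bot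
      | succ j ihj => exact h j ihj
    exact this k hk
  set D := derivedSeries G k with hD
  have hDc : IsMulCommutative D := by
    rw [← commutator_self_eq_bot_iff]; exact hk1
  obtain ⟨s, hs, hsd⟩ := Nat.exists_prime_and_dvd (fun h => hk0 (card_eq_one.mp h) : Nat.card D ≠ 1)
  have : Fact s.Prime := ⟨hs⟩
  set V : Subgroup G := closure {x | x ∈ D ∧ x ^ s = 1} with hVdef
  have hVEA : IsElementaryAbelian s V := isEA_closure
    (fun a ha b hb => congrArg Subtype.val (mul_comm' (⟨a, ha.1⟩ : D) ⟨b, hb.1⟩)) (fun a ha => ha.2)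
  have := hVEA.1
  have hVD : V ≤ D := (closure_le _).mpr fun x hx => hx.1
  have hV0 : V ≠ ⊥ := fun h => by
    obtain ⟨x, hx⟩ := exists_prime_orderOf_dvd_card' (G := D) s hsd
    have h1 : (x : G) ∈ V := subset_closure ⟨x.2, by rw [← hx, ← Subgroup.orderOf_coe, pow_orderOf_eq_one]⟩
    rw [h, mem_bot] at h1
    rw [← Subgroup.orderOf_coe, h1, orderOf_one] at hx
    exact hs.one_lt.ne hx
  have hVn : V.Normal := ⟨fun v hv g => subset_closure
    ⟨(derivedSeries_normal G k).conj_mem v (hVD hv) g,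
      by rw [conj_pow, hVEA.2 v hv, mul_one, mul_inv_cancel]⟩⟩
  have hVinv : V.map φ.toMonoidHom = V := by
    refine eq_of_le_of_card_ge ?_ (card_map_of_injective φ.injective).ge
    rintro _ ⟨v, hv, rfl⟩
    refine subset_closure ⟨?_, by rw [← map_pow, hVEA.2 v hv, map_one]⟩
    exact map_derivedSeries_le_derivedSeries φ.toMonoidHom k ⟨v, hVD hv, rfl⟩
  obtain ⟨hqf, hqp⟩ := quotient_congr_fpf V hVinv hφ hpow
  have hQn : Group.IsNilpotent (G ⧸ V) := ih _ (hn ▸ Cfsg.Lib.Core.card_quotient_lt hV0) _ hqf hqp rfl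
  have hVp : IsPGroup s V := isPGroup_of_isEA hVEA
  set q := QuotientGroup.mk' V with hq
  have hker : q.ker = V := QuotientGroup.ker_mk' V
  refine (Group.isNilpotent_of_finite_tfae.out 0 3 rfl rfl).mpr fun r hr P => ?_
  have hmapn : ∀ T : Sylow r G, ((T : Subgroup G).map q).Normal := fun T => by
    have := (Group.isNilpotent_of_finite_tfae.out 0 3 rfl rfl).mp hQn r hr
      (T.mapSurjective (QuotientGroup.mk'_surjective V))
    rwa [Sylow.coe_mapSurjective] at this
  by_cases hrs : r = s
  · subst hrs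
    have hle : q.ker ≤ (P : Subgroup G) := hker.trans_le (hVp.le_sylow_of_normal P)
    rw [← comap_map_eq_self hle]
    exact (hmapn P).comap q
  obtain ⟨Q, hQ⟩ := exists_invariant_sylow_of_fpf hφ r
  obtain ⟨j, hj⟩ := IsPGroup.iff_card.mp Q.2
  obtain ⟨i, hi⟩ := IsPGroup.iff_card.mp hVp
  have hcop : (Nat.card (Q : Subgroup G)).Coprime (Nat.card V) := by
    rw [hj, hi]
    exact Nat.Coprime.pow j i ((Nat.coprime_primes hr.out hs).mpr hrs)
  have hQV := le_centralizer_of_fpf hφ hp hpow hVinv hQ hcop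
  have hQnormal : (Q : Subgroup G).Normal := by
    refine ⟨fun x hx g => ?_⟩
    have h1 : g * x * g⁻¹ ∈ (Q : Subgroup G) ⊔ V := by
      rw [← hker, ← Subgroup.comap_map_eq, mem_comap, map_mul, map_mul, map_inv]
      exact (hmapn Q).conj_mem _ ⟨x, hx, rfl⟩ _
    obtain ⟨k, hk, w, hw, he⟩ := mem_sup_of_normal_right.mp h1
    have hcomm : Commute k w := (mem_centralizer_iff.mp (hQV hk) w hw).symm
    have h2 : w ^ Nat.card (Q : Subgroup G) = 1 := by
      have hx1 : (g * x * g⁻¹) ^ Nat.card (Q : Subgroup G) = 1 := by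
        rw [conj_pow, show x ^ Nat.card (Q : Subgroup G) = 1 from
          congrArg Subtype.val (pow_card_eq_one' (x := (⟨x, hx⟩ : (Q : Subgroup G)))), mul_one, mul_inv_cancel]
      rw [← he, hcomm.mul_pow, show k ^ Nat.card (Q : Subgroup G) = 1 from
          congrArg Subtype.val (pow_card_eq_one' (x := (⟨k, hk⟩ : (Q : Subgroup G)))), one_mul] at hx1
      exact hx1
    have h3 : w = 1 := orderOf_eq_one_iff.mp (Nat.eq_one_of_dvd_coprimes hcop
      (orderOf_dvd_of_pow_eq_one h2) (orderOf_dvd_natCard V hw))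
    rw [← he, h3, mul_one]
    exact hk
  obtain ⟨g, hg⟩ := MulAction.exists_smul_eq G Q P
  rw [← hg, Sylow.smul_eq_iff_mem_normalizer.mpr ((normalizer_eq_top_iff.mpr hQnormal).ge (mem_top g))]
  exact hQnormal

end FixedPointFree

end Cfsg.Lib.Thompson
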