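import Mathlib
import Cfsg.Prelude.Def_Transfer

/-!
# An element acting quadratically and a commutative group of coprime order

If `a` acts quadratically on an elementary abelian `p`-group `V`, `p` odd, and normalizes an abelian
`p'`-group `Q` normalizing `V`, then the commutators of `a` with the elements of `Q` centralize `V`.
-/

set_option autoImplicit false

namespace Cfsg.Lib.Thompson

open scoped commutatorElement IsMulCommutative

universe u

section RingLemma

variable {R : Type u} [Ring R] {p : ℕ}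

theorem isUnit_two_of_odd_char [hp : Fact p.Prime] (hp2 : p ≠ 2) (hp0 : (p : R) = 0) :
    IsUnit (2 : R) := by
  obtain ⟨k, hk⟩ : Odd p := hp.out.odd_of_ne_two hp2
  have h : (2 : R) * (k + 1) = 1 := by
    have : ((2 * k + 1 : ℕ) : R) = 0 := by rw [← hk, hp0]
    push_cast at this
    rw [show (2 : R) * (k + 1) = (2 * k + 1) + 1 by noncomm_ring, this, zero_add]
  have h' : ((k : R) + 1) * 2 = 1 := by
    rw [← (Nat.cast_ofNat : ((2 : ℕ) : R) = 2)] at h ⊢
    rwa [← (Nat.cast_commute 2 _).eq]
  exact ⟨⟨2, k + 1, h, h'⟩, rfl⟩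

/-- The computation: `1 + A`, `1 + B` with `A² = B² = 0` in odd characteristic. -/
theorem quadratic_pair_pow_eq_one [hp : Fact p.Prime] (hp2 : p ≠ 2) (hp0 : (p : R) = 0) {A B : R}
    (hA : A * A = 0) (hB : B * B = 0)
    (hc : Commute ((1 + B) * (1 - A)) ((1 + 2 * B) * (1 - 2 * A))) :
    ((1 + B) * (1 - A)) ^ (p ^ 2) = 1 := by
  have hA' : ∀ x : R, x * A * A = 0 := fun x => by rw [mul_assoc, hA, mul_zero]
  have hB' : ∀ x : R, x * B * B = 0 := fun x => by rw [mul_assoc, hB, mul_zero]
  have h2 : (2 : R) * (A * B * A + B * A * B) = 0 := by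
    have h := sub_eq_zero.mpr hc.eq
    simp only [mul_add, add_mul, mul_sub, sub_mul, one_mul, mul_one, two_mul, ← mul_assoc, hA, hB,
      hA', hB', zero_mul, mul_zero] at h
    linear_combination (norm := noncomm_ring) h
  rw [(isUnit_two_of_odd_char hp2 hp0).mul_right_eq_zero] at h2
  have hABAB : A * B * A * B = 0 := by
    have h := congrArg (fun x => A * x) h2
    simpa only [mul_add, ← mul_assoc, hA, zero_mul, zero_add, mul_zero] using h
  have hBABA : B * A * B * A = 0 := by
    have h := congrArg (fun x => B * x) h2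
    simpa only [mul_add, ← mul_assoc, hB, zero_mul, add_zero, mul_zero] using h
  have hABAB' : ∀ x : R, x * A * B * A * B = 0 := fun x => by
    rw [show x * A * B * A * B = x * (A * B * A * B) by noncomm_ring, hABAB, mul_zero]
  have hBABA' : ∀ x : R, x * B * A * B * A = 0 := fun x => by
    rw [show x * B * A * B * A = x * (B * A * B * A) by noncomm_ring, hBABA, mul_zero]
  set N := B - A - B * A with hN
  have hN4 : N ^ 4 = 0 := by
    simp only [hN, pow_succ, pow_zero, mul_sub, sub_mul, neg_mul, mul_neg, one_mul, ← mul_assoc, hA, hB, hA', hB',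
      hABAB, hBABA, hABAB', hBABA', zero_mul, mul_zero, sub_zero, zero_sub, neg_zero, sub_self]
  have hx : (1 + B) * (1 - A) = 1 + N := by rw [hN]; noncomm_ring
  obtain ⟨r, hr⟩ := (Commute.one_left N).exists_add_pow_prime_pow_eq hp.out 2
  have h4 : 4 ≤ p ^ 2 := by
    have := hp.out.two_le
    nlinarith
  rw [hx, hr, one_pow, pow_eq_zero_of_le h4 hN4, hp0]
  simp

end RingLemma

variable {X : Type u} [Group X]

/-- The action of the normalizer of a subgroup by endomorphisms of its additive group. -/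
def actionEnd (V : Subgroup X) [IsMulCommutative V] :
    Subgroup.normalizer (V : Set X) →* AddMonoid.End (Additive V) where
  toFun n :=
    { toFun := fun v => Additive.ofMul
        ⟨(n : X) * ((Additive.toMul v : V) : X) * (n : X)⁻¹,
          (Subgroup.mem_normalizer_iff.mp n.2 _).mp (Additive.toMul v).2⟩
      map_zero' := by
        apply Additive.toMul.injective
        apply Subtype.ext
        simp
      map_add' := fun v w => by
        apply Additive.toMul.injective
        apply Subtype.ext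
        simp [mul_assoc] }
  map_one' := by
    refine AddMonoidHom.ext fun v => ?_
    apply Additive.toMul.injective
    apply Subtype.ext
    show (1 : X) * ((Additive.toMul v : V) : X) * 1⁻¹ = ((Additive.toMul v : V) : X)
    simp
  map_mul' m n := by
    refine AddMonoidHom.ext fun v => ?_
    apply Additive.toMul.injective
    apply Subtype.ext
    show ((m * n : Subgroup.normalizer (V : Set X)) : X) * ((Additive.toMul v : V) : X) *
      ((m * n : Subgroup.normalizer (V : Set X)) : X)⁻¹ =
        (m : X) * ((n : X) * ((Additive.toMul v : V) : X) * (n : X)⁻¹) * (m : X)⁻¹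
    simp [mul_assoc]

theorem actionEnd_apply (V : Subgroup X) [IsMulCommutative V]
    (n : Subgroup.normalizer (V : Set X)) (v : Additive V) :
    ((Additive.toMul (actionEnd V n v) : V) : X) =
      (n : X) * ((Additive.toMul v : V) : X) * (n : X)⁻¹ := rfl

/-- Commutators of a quadratically acting element with a commutative `p'`-group centralize. -/
theorem commutator_mem_centralizer_of_quadratic [Finite X] {p : ℕ} [hp : Fact p.Prime] (hp2 : p ≠ 2)
    {V Q : Subgroup X} (hV : IsElementaryAbelian p V) [IsMulCommutative Q]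
    (hQ : (Nat.card Q).Coprime p) (hQV : Q ≤ Subgroup.normalizer (V : Set X)) {a : X}
    (haV : a ∈ Subgroup.normalizer (V : Set X)) (haQ : a ∈ Subgroup.normalizer (Q : Set X))
    (hquad : ∀ v ∈ V, Commute a ⁅a, v⁆) {q : X} (hq : q ∈ Q) :
    ⁅q, a⁆ ∈ Subgroup.centralizer (V : Set X) := by
  have := hV.1
  set φ := actionEnd V with hφ
  let ā : Subgroup.normalizer (V : Set X) := ⟨a, haV⟩
  let q' : Subgroup.normalizer (V : Set X) := ⟨q, hQV hq⟩
  have hc1 : ⁅q, a⁆ ∈ Q := by
    rw [commutatorElement_def, show q * a * q⁻¹ * a⁻¹ = q * (a * q⁻¹ * a⁻¹) by group]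
    exact mul_mem hq ((Subgroup.mem_normalizer_iff.mp haQ _).mp (inv_mem hq))
  have hc2 : ⁅q, a ^ 2⁆ ∈ Q := by
    rw [commutatorElement_def, show q * a ^ 2 * q⁻¹ * (a ^ 2)⁻¹ = q * (a ^ 2 * q⁻¹ * (a ^ 2)⁻¹) by group]
    exact mul_mem hq ((Subgroup.mem_normalizer_iff.mp (pow_mem haQ 2) _).mp (inv_mem hq))
  have hcomm : Commute ⁅q', ā⁆ ⁅q', ā ^ 2⁆ := by
    have h := congrArg Subtype.val (mul_comm' (⟨_, hc1⟩ : Q) ⟨_, hc2⟩)
    exact Subtype.ext h
  have hp0 : (p : AddMonoid.End (Additive V)) = 0 := by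
    refine AddMonoidHom.ext fun v => ?_
    refine (AddMonoid.End.natCast_apply p v).trans ?_
    show p • v = (0 : Additive V)
    apply Additive.toMul.injective
    apply Subtype.ext
    simpa using hV.2 _ (Additive.toMul v).2
  set A := φ ā - 1 with hA
  set B := φ q' * A * φ q'⁻¹ with hB
  have hqq : φ q'⁻¹ * φ q' = 1 := by rw [← map_mul, inv_mul_cancel, map_one]
  have hqq' : φ q' * φ q'⁻¹ = 1 := by rw [← map_mul, mul_inv_cancel, map_one]
  have hAA : A * A = 0 := by
    refine AddMonoidHom.ext fun v => ?_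
    have h1 : ∀ w : Additive V, ((Additive.toMul (A w) : V) : X) =
        ⁅a, ((Additive.toMul w : V) : X)⁆ := by
      intro w
      rw [hA, commutatorElement_def]
      show ((Additive.toMul (φ ā w - w) : V) : X) = _
      rw [toMul_sub]
      simp [hφ, actionEnd_apply, div_eq_mul_inv, ā]
    apply Additive.toMul.injective
    apply Subtype.ext
    show ((Additive.toMul (A (A v)) : V) : X) = _
    rw [h1, h1, commutatorElement_eq_one_iff_commute.mpr (hquad _ (Additive.toMul v).2)]
    rfl
  have hBB : B * B = 0 := by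
    rw [hB, show φ q' * A * φ q'⁻¹ * (φ q' * A * φ q'⁻¹) =
      φ q' * A * (φ q'⁻¹ * φ q') * A * φ q'⁻¹ by noncomm_ring, hqq]
    rw [mul_one, mul_assoc (φ q'), hAA]
    simp
  have hainv : φ ā⁻¹ = 1 - A := by
    have h1 : φ ā * (1 - A) = 1 := by
      rw [show φ ā = 1 + A by rw [hA]; abel]
      rw [show (1 + A) * (1 - A) = 1 - A * A by simp only [mul_sub, add_mul, mul_one, one_mul]; abel, hAA, sub_zero]
    calc φ ā⁻¹ = φ ā⁻¹ * (φ ā * (1 - A)) := by rw [h1, mul_one]
      _ = 1 - A := by rw [← mul_assoc, ← map_mul, inv_mul_cancel, map_one, one_mul]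
  have hconj : φ q' * φ ā * φ q'⁻¹ = 1 + B := by
    rw [hB, show φ q' * A * φ q'⁻¹ = φ q' * φ ā * φ q'⁻¹ - φ q' * φ q'⁻¹ by rw [hA]; simp only [mul_sub, sub_mul, mul_one],
      hqq']
    abel
  have hx : φ ⁅q', ā⁆ = (1 + B) * (1 - A) := by
    rw [commutatorElement_def, map_mul, map_mul, map_mul, hconj, hainv]
  have hy : φ ⁅q', ā ^ 2⁆ = (1 + 2 * B) * (1 - 2 * A) := by
    have h2 : q' * ā ^ 2 * q'⁻¹ = (q' * ā * q'⁻¹) ^ 2 := conj_pow.symm
    rw [commutatorElement_def, h2, ← inv_pow, map_mul, map_pow, map_pow, map_mul, map_mul, hconj,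
      hainv]
    congr 1
    · rw [sq, show (1 + B) * (1 + B) = 1 + 2 * B + B * B by noncomm_ring, hBB, add_zero]
    · rw [sq, show (1 - A) * (1 - A) = 1 - 2 * A + A * A by simp only [mul_sub, sub_mul, mul_one, one_mul, two_mul]; abel, hAA, add_zero]
  have hpow := quadratic_pair_pow_eq_one hp2 hp0 hAA hBB (hx ▸ hy ▸ hcomm.map φ)
  rw [← hx, ← map_pow] at hpow
  have hord : φ ⁅q', ā⁆ ^ Nat.card Q = 1 := by
    rw [← map_pow]
    have : ⁅q', ā⁆ ^ Nat.card Q = 1 := Subtype.ext
      (congrArg Subtype.val (pow_card_eq_one' (x := (⟨_, hc1⟩ : Q))) : )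
    rw [this, map_one]
  rw [map_pow] at hpow
  have hfin : φ ⁅q', ā⁆ = 1 := by
    have h := pow_gcd_eq_one.mpr ⟨hord, hpow⟩
    rwa [Nat.Coprime.gcd_eq_one (hQ.pow_right 2), pow_one] at h
  rw [Subgroup.mem_centralizer_iff]
  intro v hv
  have h := congrArg (fun f : AddMonoid.End (Additive V) =>
    ((Additive.toMul (f (Additive.ofMul (⟨v, hv⟩ : V))) : V) : X)) hfin
  simp only [hφ, actionEnd_apply] at h
  have h' : ⁅q, a⁆ * v * ⁅q, a⁆⁻¹ = v := h
  exact (mul_inv_eq_iff_eq_mul.mp h').symm

end Cfsg.Lib.Thompson
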