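import Cfsg.Agent.Lib.Thompson.Offender

/-!
# Abelian offenders on modules of groups with a normal abelian `p'`-subgroup
-/

set_option autoImplicit false

namespace Cfsg.Lib.Thompson

open Subgroup
open scoped commutatorElement

universe u

variable {X : Type u} [Group X] {p : ℕ}

/-- A `p`-group acting on a nontrivial `p`-group fixes a nontrivial element. -/
theorem inf_centralizer_ne_bot_of_isPGroup [Finite X] [Fact p.Prime] :
    ∀ {I P : Subgroup X}, IsPGroup p I → IsPGroup p P → P ≤ normalizer (I : Set X) → I ≠ ⊥ →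
      I ⊓ centralizer (P : Set X) ≠ ⊥ := by
  intro I
  induction I using WellFoundedLT.induction with
  | ind I ih =>
  intro P hI hP hPI hne
  by_cases h : ⁅I, P⁆ = ⊥
  · rw [commutator_eq_bot_iff_le_centralizer] at h
    rwa [inf_eq_left.mpr h]
  have hlt := Cfsg.Lib.PGroup.commutator_lt_of_isPGroup hI hP hPI hne
  exact fun h0 => ih _ hlt (hI.to_le hlt.le) hP (Subgroup.normalizer_commutator_ge_right I P) h
    (le_bot_iff.mp ((inf_le_inf_right _ hlt.le).trans h0.le))

/-- An abelian `p`-group `A` acting faithfully on an abelian `p'`-group `Q` that is faithful on the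
elementary abelian `p`-group `V` satisfies `|A| |C_V(A)| < |V|`, for `p = 2` provided no element of `A`
inverts an element of `Q` acting with order three on `V`. -/
theorem card_mul_card_centralizer_lt_abelian [Finite X] [hp : Fact p.Prime]
    {V Q : Subgroup X} (hV : Cfsg.IsElementaryAbelian p V) [IsMulCommutative Q]
    (hQ : (Nat.card Q).Coprime p) (hQV : Q ≤ normalizer (V : Set X))
    (hQ0 : Q ⊓ centralizer (V : Set X) = ⊥) :
    ∀ A : Subgroup X, IsMulCommutative A → IsPGroup p A → A ≤ normalizer (V : Set X) →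
      A ≤ normalizer (Q : Set X) → A ⊓ centralizer (Q : Set X) = ⊥ →
      (p ≠ 2 ∨ ∀ d ∈ Q, ∀ a ∈ A, d ^ 3 ∈ centralizer (V : Set X) → a * d * a⁻¹ * d = 1 →
        d ∈ centralizer (V : Set X)) → A ≠ ⊥ →
      Nat.card A * Nat.card (V ⊓ centralizer (A : Set X) : Subgroup X) < Nat.card V := by
  intro A
  induction A using WellFoundedLT.induction with
  | ind A ih =>
  intro hAc hAp hAV hAQ hAQ0 hF hne
  by_contra hle
  push Not at hle
  have := hAc
  have hVp : IsPGroup p V := isPGroup_of_isEA hV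
  have hcopAQ : (Nat.card A).Coprime (Nat.card Q) := by
    obtain ⟨k, hk⟩ := IsPGroup.iff_card.mp hAp
    rw [hk]; exact (hQ.pow_right k).symm
  -- a cocyclic subgroup moving its fixed points
  obtain ⟨B, hB, hBne⟩ : ∃ B ∈ Cfsg.Lib.Coprime.cocyclic A,
      ⁅Q ⊓ centralizer (B : Set X), A⁆ ≠ ⊥ := by
    by_contra h
    push Not at h
    have h1 := Cfsg.Lib.Coprime.iSup_commutator_centralizer_cocyclic_eq hAQ hcopAQ
    have h2 : ⁅Q, A⁆ = ⊥ := by
      rw [← h1, eq_bot_iff]
      exact iSup₂_le fun B hB => (h B hB).le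
    rw [commutator_eq_bot_iff_le_centralizer, le_centralizer_iff] at h2
    exact hne (le_bot_iff.mp (hAQ0 ▸ le_inf le_rfl h2))
  obtain ⟨hBA, a, haA, hBa⟩ := hB
  have hlt : B < A := by
    refine lt_of_le_of_ne hBA fun h => hBne ?_
    rw [h, commutator_eq_bot_iff_le_centralizer]
    exact inf_le_right
  have hsub : ∀ C : Subgroup X, C < A →
      C = ⊥ ∨ Nat.card C * Nat.card (V ⊓ centralizer (C : Set X) : Subgroup X) ≤ Nat.card V := by
    intro C hC
    by_cases hC1 : C = ⊥
    · exact Or.inl hC1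
    refine Or.inr (ih C hC ⟨⟨fun x y => Subtype.ext (congrArg Subtype.val
      (mul_comm' (⟨x, hC.le x.2⟩ : A) ⟨y, hC.le y.2⟩) :)⟩⟩ (hAp.to_le hC.le) (hC.le.trans hAV)
      (hC.le.trans hAQ) (le_bot_iff.mp (hAQ0 ▸ inf_le_inf_right _ hC.le))
      (hF.imp_right fun h d hd c hc => h d hd c (hC.le hc)) hC1).le
  have hcA : ∀ x ∈ A, ∀ y ∈ A, Commute x y := fun x hx y hy =>
    congrArg Subtype.val (mul_comm' (⟨x, hx⟩ : A) ⟨y, hy⟩)
  -- `|A| ≤ p |B|` if `a ^ p ∈ B`
  have hcardA : a ^ p ∈ B → Nat.card A ≤ p * Nat.card B := by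
    intro hap
    have hza : zpowers a ≤ normalizer (B : Set X) := zpowers_le.mpr
      (centralizer_le_normalizer _ (mem_centralizer_iff.mpr fun y hy => (hcA y (hBA hy) a haA).eq))
    have h1 : Nat.card A ≤ Nat.card (B × Fin p) := by
      refine Nat.card_le_card_of_surjective
        (fun z : B × Fin p => (⟨(z.1 : X) * a ^ (z.2 : ℕ),
          A.mul_mem (hBA z.1.2) (pow_mem haA _)⟩ : A)) ?_
      rintro ⟨x, hx⟩
      rw [← hBa] at hx
      obtain ⟨b, hb, c, hc, rfl⟩ := Cfsg.Lib.Coprime.exists_mul_of_mem_sup hza hx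
      obtain ⟨i, rfl⟩ := (isOfFinOrder_of_finite a).mem_powers_iff_mem_zpowers.mpr hc
      refine ⟨⟨⟨b * (a ^ p) ^ (i / p), mul_mem hb (pow_mem hap _)⟩, ⟨i % p, Nat.mod_lt _ hp.out.pos⟩⟩,
        Subtype.ext ?_⟩
      show b * (a ^ p) ^ (i / p) * a ^ (i % p) = b * a ^ i
      rw [mul_assoc, ← pow_mul, ← pow_add, Nat.div_add_mod]
    rwa [Nat.card_prod, Nat.card_fin, mul_comm] at h1
  set W := V ⊓ centralizer (B : Set X) with hW
  set U := V ⊓ centralizer (A : Set X) with hU
  have hUW : U ≤ W := inf_le_inf_left _ (centralizer_le hBA)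
  have hBW : Nat.card B * Nat.card W ≤ Nat.card V := by
    rcases hsub B hlt with hB1 | h
    · rw [hB1, card_bot, one_mul]; exact card_le_of_le inf_le_left
    · exact h
  have hWU : a ^ p ∈ B → Nat.card W ≤ p * Nat.card U := fun hap => by
    have h : Nat.card B * Nat.card W ≤ Nat.card B * (p * Nat.card U) :=
      calc Nat.card B * Nat.card W ≤ Nat.card V := hBW
        _ ≤ Nat.card A * Nat.card U := hle
        _ ≤ p * Nat.card B * Nat.card U := Nat.mul_le_mul_right _ (hcardA hap)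
        _ = Nat.card B * (p * Nat.card U) := by ring
    exact Nat.le_of_mul_le_mul_left h Nat.card_pos
  -- `a` acts quadratically on `W`
  have hAC : A ≤ normalizer (B : Set X) := fun x hx =>
    centralizer_le_normalizer _ (mem_centralizer_iff.mpr fun y hy => (hcA y (hBA hy) x hx).eq)
  have haW : a ∈ normalizer (W : Set X) :=
    Cfsg.Lib.Coprime.le_normalizer_inf_centralizer hAV hAC haA
  have := hV.1
  have hcV : ∀ x ∈ V, ∀ y ∈ V, Commute x y := fun x hx y hy =>
    congrArg Subtype.val (mul_comm' (⟨x, hx⟩ : V) ⟨y, hy⟩)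
  have hfW : ∀ w ∈ W, ⁅a, w⁆ ∈ W := fun w hw => by
    rw [commutatorElement_def]
    exact W.mul_mem ((mem_normalizer_iff.mp haW w).mp hw) (inv_mem hw)
  have hfmul : ∀ x y : W, ⁅a, ((x * y : W) : X)⁆ = ⁅a, (x : X)⁆ * ⁅a, (y : X)⁆ := by
    intro x y
    have hy : ⁅a, (y : X)⁆ ∈ V := (hfW y y.2).1
    rw [coe_mul, show ⁅a, (x : X) * (y : X)⁆ = ⁅a, (x : X)⁆ * ((x : X) * ⁅a, (y : X)⁆ * (x : X)⁻¹)
      by simp [commutatorElement_def, mul_assoc]]
    rw [(hcV _ x.2.1 _ hy).eq, mul_inv_cancel_right]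
  set f : W →* X := MonoidHom.mk' (fun w => ⁅a, (w : X)⁆) hfmul with hf
  set I := f.range with hI
  have hIW : I ≤ W := by
    rintro _ ⟨w, rfl⟩
    exact hfW w w.2
  have hIp : IsPGroup p I := hVp.to_le (hIW.trans inf_le_left)
  have hcardI : a ^ p ∈ B → Nat.card I ≤ p := by
    intro hap
    have h1 : Nat.card f.ker * Nat.card I = Nat.card W := by
      rw [hI, ← index_ker]; exact f.ker.card_mul_index
    have h2 : Nat.card U ≤ Nat.card f.ker := by
      refine Nat.card_le_card_of_injective (fun u : U => (⟨⟨u, hUW u.2⟩, ?_⟩ : f.ker)) ?_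
      · show ⁅a, (u : X)⁆ = 1
        exact commutatorElement_eq_one_iff_mul_comm.mpr (mem_centralizer_iff.mp u.2.2 a haA)
      · intro x y h
        exact Subtype.ext (congrArg (fun z : f.ker => ((z : W) : X)) h)
    exact Nat.le_of_mul_le_mul_left
      (calc Nat.card U * Nat.card I ≤ Nat.card f.ker * Nat.card I := Nat.mul_le_mul_right _ h2
        _ = Nat.card W := h1
        _ ≤ p * Nat.card U := hWU hap
        _ = Nat.card U * p := mul_comm _ _) Nat.card_pos
  have haI : zpowers a ≤ normalizer (I : Set X) := by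
    rw [zpowers_le, mem_normalizer_iff_map_conj_eq]
    refine eq_of_le_of_card_ge ?_ (card_map_of_injective (MulAut.conj a).injective).ge
    rintro _ ⟨_, ⟨w, rfl⟩, rfl⟩
    refine ⟨⟨a * w * a⁻¹, (mem_normalizer_iff.mp haW _).mp w.2⟩, ?_⟩
    show ⁅a, a * (w : X) * a⁻¹⁆ = a * ⁅a, (w : X)⁆ * a⁻¹
    simp [commutatorElement_def, mul_assoc]
  -- a power of `a` outside `B` forces `a` to centralize `W`
  have htriv : a ^ p ∉ B → ∀ w ∈ W, ⁅a, w⁆ = 1 := by
    intro hap
    set A₀ := B ⊔ zpowers (a ^ p) with hA₀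
    have hA₀A : A₀ ≤ A := sup_le hBA (zpowers_le.mpr (pow_mem haA _))
    have hA₀lt : A₀ < A := by
      refine lt_of_le_of_ne hA₀A fun hEq => hlt.ne ?_
      have haB : zpowers (a ^ p) ≤ normalizer (B : Set X) := zpowers_le.mpr (pow_mem
        (centralizer_le_normalizer _
          (mem_centralizer_iff.mpr fun y hy => (hcA y (hBA hy) a haA).eq)) _)
      have h0 : a ∈ A₀ := hEq ▸ haA
      obtain ⟨b, hb, c, hc, e⟩ := Cfsg.Lib.Coprime.exists_mul_of_mem_sup haB h0
      obtain ⟨i, rfl⟩ := mem_zpowers_iff.mp hc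
      have h1 : a ^ (1 - (p : ℤ) * i) ∈ B := by
        rw [zpow_sub, zpow_one, zpow_mul, zpow_natCast, mul_inv_eq_iff_eq_mul.mpr e]
        exact hb
      obtain ⟨k, hk⟩ := hAp ⟨a, haA⟩
      have hk' : a ^ p ^ k = 1 := congrArg Subtype.val hk
      have hco : IsCoprime (1 - (p : ℤ) * i) (p : ℤ) := ⟨1, i, by ring⟩
      obtain ⟨u, v, huv⟩ := hco.pow_right (n := k)
      have haB' : a ∈ B := by
        rw [← zpow_one a, ← huv, zpow_add, mul_comm u, zpow_mul, mul_comm v, zpow_mul a _ v,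
          show ((p : ℤ) ^ k) = ((p ^ k : ℕ) : ℤ) by push_cast; ring, zpow_natCast, hk', one_zpow,
          mul_one]
        exact zpow_mem h1 u
      exact le_antisymm hBA (hBa.ge.trans (sup_le le_rfl (zpowers_le.mpr haB')))
    have hA₀ne : A₀ ≠ ⊥ := fun h => hap (by
      have h0 : a ^ p ∈ A₀ := le_sup_right (a := B) (mem_zpowers _)
      rw [h, mem_bot] at h0
      rw [h0]; exact one_mem _)
    set U₀ := V ⊓ centralizer (A₀ : Set X) with hU₀
    have hU₀U : U₀ = U := by
      have hUle : U ≤ U₀ := inf_le_inf_left _ (centralizer_le hA₀A)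
      symm
      refine eq_of_le_of_card_ge hUle ?_
      have hb := (hsub A₀ hA₀lt).resolve_left hA₀ne
      have hBA₀ : Nat.card A ≤ p * Nat.card A₀ := by
        have hza : zpowers a ≤ normalizer (A₀ : Set X) := zpowers_le.mpr
          (centralizer_le_normalizer _ (mem_centralizer_iff.mpr fun y hy =>
            (hcA y (hA₀A hy) a haA).eq))
        have h1 : Nat.card A ≤ Nat.card (A₀ × Fin p) := by
          refine Nat.card_le_card_of_surjective
            (fun z : A₀ × Fin p => (⟨(z.1 : X) * a ^ (z.2 : ℕ),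
              A.mul_mem (hA₀A z.1.2) (pow_mem haA _)⟩ : A)) ?_
          rintro ⟨x, hx⟩
          have hx' : x ∈ A₀ ⊔ zpowers a := (sup_le_sup_right (le_sup_left : B ≤ A₀) (zpowers a)) (hBa.ge hx)
          obtain ⟨b, hb, c, hc, rfl⟩ := Cfsg.Lib.Coprime.exists_mul_of_mem_sup hza hx'
          obtain ⟨i, rfl⟩ := (isOfFinOrder_of_finite a).mem_powers_iff_mem_zpowers.mpr hc
          refine ⟨⟨⟨b * (a ^ p) ^ (i / p),
            mul_mem hb (pow_mem (le_sup_right (a := B) (mem_zpowers _)) _)⟩,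
              ⟨i % p, Nat.mod_lt _ hp.out.pos⟩⟩, Subtype.ext ?_⟩
          show b * (a ^ p) ^ (i / p) * a ^ (i % p) = b * a ^ i
          rw [mul_assoc, ← pow_mul, ← pow_add, Nat.div_add_mod]
        rwa [Nat.card_prod, Nat.card_fin, mul_comm] at h1
      have h2 : Nat.card U₀ ≤ p * Nat.card U := Nat.le_of_mul_le_mul_left
        (calc Nat.card A₀ * Nat.card U₀ ≤ Nat.card V := hb
          _ ≤ Nat.card A * Nat.card U := hle
          _ ≤ p * Nat.card A₀ * Nat.card U := Nat.mul_le_mul_right _ hBA₀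
          _ = Nat.card A₀ * (p * Nat.card U) := by ring) Nat.card_pos
      by_contra hlt'
      push Not at hlt'
      obtain ⟨i, hi⟩ := IsPGroup.iff_card.mp (hVp.to_le (inf_le_left : U₀ ≤ V))
      obtain ⟨j, hj⟩ := IsPGroup.iff_card.mp (hVp.to_le (inf_le_left : U ≤ V))
      have heq : Nat.card U₀ = p * Nat.card U := by
        rw [hi, hj] at h2 hlt'
        rw [hi, hj]
        have h3 : j < i := (Nat.pow_lt_pow_iff_right hp.out.one_lt).mp hlt'
        have h4 : i ≤ j + 1 := (Nat.pow_le_pow_iff_right hp.out.one_lt).mp (by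
          rw [pow_succ, mul_comm]; exact h2)
        rw [show i = j + 1 by omega, pow_succ, mul_comm]
      have hstrict := ih A₀ hA₀lt ⟨⟨fun x y => Subtype.ext (congrArg Subtype.val
        (mul_comm' (⟨x, hA₀A x.2⟩ : A) ⟨y, hA₀A y.2⟩) :)⟩⟩ (hAp.to_le hA₀A) (hA₀A.trans hAV)
        (hA₀A.trans hAQ) (le_bot_iff.mp (hAQ0 ▸ inf_le_inf_right _ hA₀A))
        (hF.imp_right fun h d hd c hc => h d hd c (hA₀A hc)) hA₀ne
      have : Nat.card A * Nat.card U ≤ Nat.card A₀ * Nat.card U₀ := by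
        rw [heq, ← mul_assoc, mul_comm (Nat.card A₀) p]
        exact Nat.mul_le_mul_right _ hBA₀
      exact absurd (lt_of_le_of_lt (hle.trans this) hstrict) (lt_irrefl _)
    have hfix : ∀ w ∈ W, Commute (a ^ p) w → ⁅a, w⁆ = 1 := by
      intro w hw hc
      have hwU : w ∈ U := by
        rw [← hU₀U]
        refine ⟨hw.1, mem_centralizer_iff.mpr ?_⟩
        intro y hy
        have : A₀ ≤ centralizer ({w} : Set X) := sup_le
          (fun b hb => mem_centralizer_iff.mpr fun v hv => by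
            rw [Set.mem_singleton_iff.mp hv]; exact (mem_centralizer_iff.mp hw.2 b hb).symm)
          (zpowers_le.mpr (mem_centralizer_iff.mpr fun v hv => by
            rw [Set.mem_singleton_iff.mp hv]; exact hc.eq.symm))
        exact ((mem_centralizer_iff.mp (this hy)) w rfl).symm
      exact commutatorElement_eq_one_iff_mul_comm.mpr (mem_centralizer_iff.mp hwU.2 a haA)
    intro w hw
    by_contra hw1
    have hI0 : I ≠ ⊥ := fun h => hw1 (by
      have : ⁅a, w⁆ ∈ I := ⟨⟨w, hw⟩, rfl⟩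
      rwa [h, mem_bot] at this)
    obtain ⟨e, he, he1⟩ : ∃ e ∈ I ⊓ centralizer ((zpowers a : Subgroup X) : Set X), e ∉ (⊥ : Subgroup X) :=
      SetLike.exists_of_lt (bot_lt_iff_ne_bot.mpr
        (inf_centralizer_ne_bot_of_isPGroup hIp (hAp.to_le (zpowers_le.mpr haA)) haI hI0))
    obtain ⟨⟨w', rfl⟩, hec⟩ := he
    have hce : Commute a (f w') := mem_centralizer_iff.mp hec a (mem_zpowers a)
    have hpow : ∀ k : ℕ, a ^ k * (w' : X) * (a ^ k)⁻¹ = (f w') ^ k * w' := by
      intro k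
      induction k with
      | zero => simp
      | succ k ih =>
        have hstep : a * (w' : X) * a⁻¹ = f w' * w' := by
          show a * (w' : X) * a⁻¹ = ⁅a, (w' : X)⁆ * w'
          simp [commutatorElement_def]
        rw [pow_succ', show a * a ^ k * (w' : X) * (a * a ^ k)⁻¹ = a * (a ^ k * w' * (a ^ k)⁻¹) * a⁻¹
          by group, ih, show a * ((f w') ^ k * (w' : X)) * a⁻¹
            = (a * (f w') ^ k) * a⁻¹ * (a * w' * a⁻¹) by group, (hce.pow_right k).eq,
          mul_inv_cancel_right, hstep, ← mul_assoc, ← pow_succ]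
    have hp' := hpow p
    rw [show (f w') ^ p = 1 from hV.2 _ (hfW _ w'.2).1, one_mul] at hp'
    exact he1 (mem_bot.mpr (hfix w' w'.2 (mul_inv_eq_iff_eq_mul.mp hp')))
  have hquad : ∀ w ∈ W, Commute a ⁅a, w⁆ := by
    intro w hw
    have hwI : ⁅a, w⁆ ∈ I := ⟨⟨w, hw⟩, rfl⟩
    by_cases hap : a ^ p ∈ B
    swap
    · rw [htriv hap w hw]; exact Commute.one_right a
    by_cases hI0 : I = ⊥
    · rw [hI0, mem_bot] at hwI
      rw [hwI]; exact Commute.one_right a
    have hJ := Cfsg.Lib.PGroup.commutator_lt_of_isPGroup hIp (hAp.to_le (zpowers_le.mpr haA)) haI hI0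
    have hJ0 : (⁅I, zpowers a⁆ : Subgroup X) = ⊥ := by
      obtain ⟨j, hj⟩ := IsPGroup.iff_card.mp (hIp.to_le hJ.le)
      have h3 : Nat.card (⁅I, zpowers a⁆ : Subgroup X) < p :=
        lt_of_lt_of_le (by
          refine lt_of_le_of_ne (card_le_of_le hJ.le) fun h => hJ.ne (eq_of_le_of_card_ge hJ.le h.ge))
          (hcardI hap)
      rw [hj] at h3
      have : j < 1 := (Nat.pow_lt_pow_iff_right hp.out.one_lt).mp (by rwa [pow_one])
      exact card_eq_one.mp (by rw [hj, Nat.lt_one_iff.mp this, pow_zero])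
    rw [commutator_eq_bot_iff_le_centralizer] at hJ0
    exact mem_centralizer_iff.mp (hJ0 hwI) a (mem_zpowers a)
  -- the commutators of `a` with `C_Q(B)` centralize `V`
  set Q1 := Q ⊓ centralizer (B : Set X) with hQ1
  have : IsMulCommutative Q1 := ⟨⟨fun x y => Subtype.ext
    (congrArg Subtype.val (mul_comm' (⟨x, x.2.1⟩ : Q) ⟨y, y.2.1⟩) :)⟩⟩
  have hQ1W : Q1 ≤ normalizer (W : Set X) :=
    Cfsg.Lib.Coprime.le_normalizer_inf_centralizer (inf_le_left.trans hQV)
      (inf_le_right.trans (centralizer_le_normalizer _))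
  have haQ1 : a ∈ normalizer (Q1 : Set X) :=
    Cfsg.Lib.Coprime.le_normalizer_inf_centralizer hAQ hAC haA
  have hWEA : Cfsg.IsElementaryAbelian p W :=
    ⟨⟨⟨fun x y => Subtype.ext (hcV x x.2.1 y y.2.1).eq⟩⟩, fun x hx => hV.2 x hx.1⟩
  have hQ1c : (Nat.card Q1).Coprime p := hQ.coprime_dvd_left (card_dvd_of_le inf_le_left)
  set Q2 := closure ((fun q => ⁅q, a⁆) '' (Q1 : Set X)) with hQ2
  have hmem : ∀ q ∈ Q1, ⁅q, a⁆ ∈ Q1 := by
    intro q hq
    rw [commutatorElement_def, show q * a * q⁻¹ * a⁻¹ = q * (a * q⁻¹ * a⁻¹) by group]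
    exact Q1.mul_mem hq ((mem_normalizer_iff.mp haQ1 _).mp (inv_mem hq))
  -- what centralizes `W` in `C_Q(B)` centralizes `V`
  have hup : ∀ q ∈ Q1, (∀ w ∈ W, Commute q w) → q ∈ centralizer (V : Set X) := by
    intro q hq hqw
    have hle : zpowers q ≤ Q1 := zpowers_le.mpr hq
    have hWq : W ≤ centralizer ((zpowers q : Subgroup X) : Set X) := fun w hw =>
      mem_centralizer_iff.mpr fun v hv => by
        obtain ⟨i, rfl⟩ := mem_zpowers_iff.mp hv
        exact ((hqw w hw).zpow_left i).eq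
    have h := Cfsg.Lib.Coprime.commutator_eq_bot_of_AxB V B (zpowers q) hVp (hAp.to_le hBA)
      (hQ1c.coprime_dvd_left (card_dvd_of_le hle)) (hBA.trans hAV)
      (hle.trans (inf_le_left.trans hQV)) (hle.trans inf_le_right) hWq
    rw [commutator_eq_bot_iff_le_centralizer, le_centralizer_iff] at h
    exact h (mem_zpowers q)
  have hone : ∀ q ∈ Q1, ⁅q, a⁆ = 1 := by
    intro q hq
    have hd := hmem q hq
    suffices h : ⁅q, a⁆ ∈ centralizer (V : Set X) by
      have : ⁅q, a⁆ ∈ Q ⊓ centralizer (V : Set X) := ⟨hd.1, h⟩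
      rwa [hQ0, mem_bot] at this
    rcases hF with hp2 | hF
    · exact hup _ hd fun w hw => ((mem_centralizer_iff.mp
        (commutator_mem_centralizer_of_quadratic hp2 hWEA hQ1c hQ1W haW haQ1 hquad hq) w hw)).symm
    by_cases hp2 : p ≠ 2
    · exact hup _ hd fun w hw => ((mem_centralizer_iff.mp
        (commutator_mem_centralizer_of_quadratic hp2 hWEA hQ1c hQ1W haW haQ1 hquad hq) w hw)).symm
    push Not at hp2
    by_cases hap : a ^ p ∈ B
    swap
    · refine hup _ hd fun w hw => ?_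
      have hqiw : q⁻¹ * w * q ∈ W := by
        simpa using (mem_normalizer_iff.mp (inv_mem (hQ1W hq)) w).mp hw
      have h1 : Commute a w := commutatorElement_eq_one_iff_commute.mp (htriv hap w hw)
      have h2 : Commute a (q⁻¹ * w * q) :=
        commutatorElement_eq_one_iff_commute.mp (htriv hap _ hqiw)
      have h3 : Commute (q * a * q⁻¹) w := by
        have := h2.map (MulAut.conj q).toMonoidHom
        simpa [MulAut.conj_apply, mul_assoc] using this
      rw [commutatorElement_def]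
      exact h3.mul_left h1.inv_left
    -- now `p = 2` and `a` is a transvection on `W`
    have hI2 : Nat.card I ≤ 2 := hp2 ▸ hcardI hap
    set d := ⁅q, a⁆ with hddef
    set T : Subgroup X := I ⊔ I.map (MulAut.conj q).toMonoidHom with hT
    have hTW : T ≤ W := by
      refine sup_le hIW ?_
      rintro _ ⟨i, hi, rfl⟩
      exact (mem_normalizer_iff.mp (hQ1W hq) i).mp (hIW hi)
    have haw : ∀ w ∈ W, a * w * a⁻¹ * w⁻¹ ∈ I := fun w hw => ⟨⟨w, hw⟩, rfl⟩
    have hcw : ∀ w ∈ W, (q * a * q⁻¹) * w * (q * a * q⁻¹)⁻¹ * w⁻¹ ∈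
        I.map (MulAut.conj q).toMonoidHom := by
      intro w hw
      have hqiw : q⁻¹ * w * q ∈ W := by
        simpa using (mem_normalizer_iff.mp (inv_mem (hQ1W hq)) w).mp hw
      exact ⟨_, haw _ hqiw, by simp [MulAut.conj_apply, mul_assoc]⟩
    have haiw : ∀ w ∈ W, a⁻¹ * w * a * w⁻¹ ∈ I := by
      intro w hw
      have hw' : a⁻¹ * w * a ∈ W := by
        simpa using (mem_normalizer_iff.mp (inv_mem haW) w).mp hw
      have := inv_mem (haw _ hw')
      simpa [mul_assoc] using this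
    -- `d` moves elements of `W` only within `T`
    have hdw : ∀ w ∈ W, d * w * d⁻¹ * w⁻¹ ∈ T := by
      intro w hw
      have h1 := haiw w hw
      have hiW : a⁻¹ * w * a * w⁻¹ ∈ W := hIW h1
      have e : d * w * d⁻¹ * w⁻¹ = ((q * a * q⁻¹) * (a⁻¹ * w * a * w⁻¹) * (q * a * q⁻¹)⁻¹ *
          (a⁻¹ * w * a * w⁻¹)⁻¹) * ((a⁻¹ * w * a * w⁻¹) *
          ((q * a * q⁻¹) * w * (q * a * q⁻¹)⁻¹ * w⁻¹)) := by
        rw [hddef, commutatorElement_def]; group
      rw [e]
      exact mul_mem (le_sup_right (a := I) (hcw _ hiW))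
        (mul_mem (le_sup_left (b := I.map (MulAut.conj q).toMonoidHom) h1)
          (le_sup_right (a := I) (hcw w hw)))
    have hdT : ∀ t ∈ T, d * t * d⁻¹ ∈ T := fun t ht => by
      have := mul_mem (hdw t (hTW ht)) ht
      simpa [mul_assoc] using this
    have hdo : Odd (orderOf d) := by
      have := hQ1c.coprime_dvd_left (orderOf_dvd_natCard Q1 hd)
      rw [hp2] at this
      exact Nat.coprime_two_right.mp this
    have hTcard : Nat.card T ≤ 4 := by
      have hIn : I.map (MulAut.conj q).toMonoidHom ≤ normalizer (I : Set X) := fun x hx =>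
        centralizer_le_normalizer _ (mem_centralizer_iff.mpr fun y hy =>
          (hcV y (hIW hy).1 x (hTW (le_sup_right (a := I) hx)).1).eq)
      refine (Nat.card_le_card_of_surjective
        (fun z : I × I.map (MulAut.conj q).toMonoidHom => (⟨(z.1 : X) * z.2,
          mul_mem (le_sup_left (b := I.map (MulAut.conj q).toMonoidHom) z.1.2)
            (le_sup_right (a := I) z.2.2)⟩ : T)) ?_).trans ?_
      · rintro ⟨t, ht⟩
        obtain ⟨b, hb, c, hc, rfl⟩ := Cfsg.Lib.Coprime.exists_mul_of_mem_sup hIn ht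
        exact ⟨⟨⟨b, hb⟩, ⟨c, hc⟩⟩, rfl⟩
      · rw [Nat.card_prod, card_map_of_injective (MulAut.conj q).injective]
        exact Nat.mul_le_mul hI2 hI2
    -- hence the cube of `d` centralizes `W`
    have hd3T : ∀ t ∈ T, Commute (d ^ 3) t := by
      intro t ht
      let π : {t : T // t ≠ 1} → {t : T // t ≠ 1} := fun u =>
        ⟨⟨d * u.1 * d⁻¹, hdT _ u.1.2⟩, fun h => u.2 (Subtype.ext (conj_eq_one_iff.mp
          (congrArg Subtype.val h)))⟩
      have hπ : Function.Injective π := fun u v h => Subtype.ext (Subtype.ext (by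
        have := congrArg (fun z : {t : T // t ≠ 1} => ((z.1 : T) : X)) h
        simpa [π] using this))
      let σ : Equiv.Perm {t : T // t ≠ 1} :=
        Equiv.ofBijective π (Finite.injective_iff_bijective.mp hπ)
      have hcard : Nat.card {t : T // t ≠ 1} ≤ 3 := by
        have : Nat.card {t : T // t ≠ 1} < Nat.card T := Finite.card_subtype_lt (x := 1) (by simp)
        omega
      have hdvd : orderOf σ ∣ 6 := by
        refine (orderOf_dvd_natCard σ).trans ?_
        rw [Nat.card_perm]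
        exact Nat.factorial_dvd_factorial hcard
      have hiter : ∀ (k : ℕ) (u : {t : T // t ≠ 1}),
          (((σ ^ k) u).1 : X) = d ^ k * u.1 * (d ^ k)⁻¹ := by
        intro k
        induction k with
        | zero => simp
        | succ k ih =>
          intro u
          rw [pow_succ', Equiv.Perm.mul_apply]
          show d * (((σ ^ k) u).1 : X) * d⁻¹ = _
          rw [ih, pow_succ']
          group
      by_cases ht1 : (⟨t, ht⟩ : T) = 1
      · rw [show t = 1 from congrArg Subtype.val ht1]; exact Commute.one_right _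
      have h6 := hiter 6 ⟨⟨t, ht⟩, ht1⟩
      rw [orderOf_dvd_iff_pow_eq_one.mp hdvd, Equiv.Perm.one_apply] at h6
      have hc6 : Commute (d ^ 6) t := mul_inv_eq_iff_eq_mul.mp h6.symm
      obtain ⟨k, hk⟩ := hdo
      have e : d ^ 3 = (d ^ 6) ^ (k + 1) := by
        rw [← pow_mul, show 6 * (k + 1) = orderOf d * 3 + 3 by omega, pow_add, pow_mul,
          pow_orderOf_eq_one, one_pow, one_mul]
      rw [e]
      exact hc6.pow_left _
    have hd3 : ∀ w ∈ W, Commute (d ^ 3) w := by
      intro w hw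
      have h1 : d ^ 3 * w * (d ^ 3)⁻¹ * w⁻¹ ∈ T := by
        have hw1 : d * w * d⁻¹ ∈ W := by
          have := mul_mem (hTW (hdw w hw)) hw
          simpa using this
        have hw2 : d * (d * w * d⁻¹) * d⁻¹ ∈ W := by
          have := mul_mem (hTW (hdw _ hw1)) hw1
          rwa [inv_mul_cancel_right] at this
        have e : d ^ 3 * w * (d ^ 3)⁻¹ * w⁻¹ =
            (d * (d * (d * w * d⁻¹) * d⁻¹) * d⁻¹ * (d * (d * w * d⁻¹) * d⁻¹)⁻¹) *
            ((d * (d * w * d⁻¹) * d⁻¹ * (d * w * d⁻¹)⁻¹) * (d * w * d⁻¹ * w⁻¹)) := by simp only [pow_succ, pow_zero, one_mul]; group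
        rw [e]
        exact mul_mem (hdw _ hw2) (mul_mem (hdw _ hw1) (hdw w hw))
      obtain ⟨t, ht, e⟩ : ∃ t ∈ T, d ^ 3 * w * (d ^ 3)⁻¹ = t * w := ⟨_, h1, by group⟩
      have htt : t * t = 1 := by
        have := hWEA.2 t (hTW ht)
        rwa [hp2, pow_two] at this
      have hc2 : Commute ((d ^ 3) ^ 2) w := by
        refine mul_inv_eq_iff_eq_mul.mp ?_
        rw [pow_two, show d ^ 3 * d ^ 3 * w * (d ^ 3 * d ^ 3)⁻¹
          = d ^ 3 * (d ^ 3 * w * (d ^ 3)⁻¹) * (d ^ 3)⁻¹ by group, e,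
          show d ^ 3 * (t * w) * (d ^ 3)⁻¹ = (d ^ 3 * t) * (d ^ 3)⁻¹ * (d ^ 3 * w * (d ^ 3)⁻¹) by group,
          (hd3T t ht).eq, mul_inv_cancel_right, e, ← mul_assoc, htt, one_mul]
      obtain ⟨k, hk⟩ := hdo
      have e' : d ^ 3 = ((d ^ 3) ^ 2) ^ (k + 1) := by
        rw [← pow_mul, ← pow_mul, show 3 * (2 * (k + 1)) = orderOf d * 3 + 3 by omega, pow_add,
          pow_mul d (orderOf d) 3, pow_orderOf_eq_one, one_pow, one_mul]
      rw [e']
      exact hc2.pow_left _
    -- and `a` inverts `d`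
    refine hF d hd.1 a haA (hup _ (pow_mem hd 3) hd3) ?_
    have ha2 : Commute (a * a) q⁻¹ := by
      have : a * a ∈ B := by rw [← pow_two, ← hp2]; exact hap
      exact (mem_centralizer_iff.mp hq.2 _ this : a * a * q = q * (a * a)) |> fun h =>
        (show Commute (a * a) q from h).inv_right
    have hcomm : Commute q (a * q⁻¹ * a⁻¹) := congrArg Subtype.val (mul_comm' (⟨q, hq⟩ : Q1)
      ⟨a * q⁻¹ * a⁻¹, (mem_normalizer_iff.mp haQ1 _).mp (inv_mem hq)⟩)
    rw [hddef, commutatorElement_def]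
    calc a * (q * a * q⁻¹ * a⁻¹) * a⁻¹ * (q * a * q⁻¹ * a⁻¹)
        = a * q * a⁻¹ * ((a * a * q⁻¹) * (a * a)⁻¹) * (q * (a * q⁻¹ * a⁻¹)) := by group
      _ = a * q * a⁻¹ * q⁻¹ * (q * (a * q⁻¹ * a⁻¹)) := by rw [ha2.eq, mul_inv_cancel_right]
      _ = 1 := by group
  have hQ20 : Q2 = ⊥ := by
    rw [hQ2, closure_eq_bot_iff]
    rintro _ ⟨q, hq, rfl⟩
    exact hone q hq
  refine hBne ?_
  rw [commutator_eq_bot_iff_le_centralizer, le_centralizer_iff, ← hBa, sup_le_iff, zpowers_le]
  refine ⟨le_centralizer_iff.mp inf_le_right, mem_centralizer_iff.mpr fun q hq => ?_⟩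
  have : ⁅q, a⁆ ∈ Q2 := subset_closure ⟨q, hq, rfl⟩
  rw [hQ20, mem_bot] at this
  exact commutatorElement_eq_one_iff_mul_comm.mp this

end Cfsg.Lib.Thompson
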