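import Cfsg.Agent.Lib.Thompson.OffenderAbelian
import Cfsg.Agent.Lib.Thompson.NormalComplement
import Cfsg.Agent.Lib.Thompson.Omega
import Cfsg.Agent.Lib.Local.GlaubermanComplement
import Cfsg.Agent.Lib.Local.SFour
import Cfsg.Agent.Lib.FusionSys.NormalizerModel

/-!
# Thompson's normal `p`-complement theorem with abelian subgroups of largest order

For `p` odd, or for groups in which the symmetric group of degree four is not involved.
-/

set_option autoImplicit false

namespace Cfsg.Lib.ThompsonA

open Subgroup Cfsg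
open Cfsg.Lib.Fusion
open Cfsg.Lib.Thompson (zenter zenter_ne_bot normalizer_le_normalizer_zenter map_zenter)
open Cfsg.Lib.Local.GlaubermanZJ (IsMaxAbIn)
open scoped Pointwise commutatorElement

universe u v w

variable {p : ℕ}

/-- The local hypotheses. -/
def LocalA (p : ℕ) {G : Type u} [Group G] (S : Subgroup G) : Prop :=
  HasNormalPComplement p (normalizer (thompsonSubgroupAOf S : Set G)) ∧
    HasNormalPComplement p (centralizer (zenter S : Set G))

/-- Either `p` is odd or the symmetric group of degree four is not involved. -/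
def FreeA (p : ℕ) (G : Type u) [Group G] : Prop :=
  p ≠ 2 ∨ ¬ Cfsg.Involves (Equiv.Perm (Fin 4)) G

theorem FreeA.of_injective {G : Type u} [Group G] {H : Type v} [Group H] (h : FreeA p G)
    (f : H →* G) (hf : Function.Injective f) : FreeA p H :=
  h.imp_right fun h1 h2 => h1 (Cfsg.Lib.FusionSys.involves_of_injective hf h2)

theorem FreeA.of_surjective {G : Type u} [Group G] {H : Type v} [Group H] (h : FreeA p G)
    (f : G →* H) (hf : Function.Surjective f) : FreeA p H :=
  h.imp_right fun h1 h2 => h1 (Cfsg.Lib.FusionSys.involves_of_surjective hf h2)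

theorem thompsonSubgroupAOf_le {G : Type u} [Group G] (S : Subgroup G) : thompsonSubgroupAOf S ≤ S :=
  map_subtype_le _

theorem map_thompsonSubgroupAOf {G : Type u} [Group G] [Finite G] {H : Type v} [Group H]
    (f : G →* H) (S : Subgroup G) (hf : Set.InjOn f S) :
    (thompsonSubgroupAOf S).map f = thompsonSubgroupAOf (S.map f) := by
  have hinj : Function.Injective (f.subgroupMap S) := fun x y h =>
    Subtype.ext (hf x.2 y.2 (congrArg Subtype.val h))
  let e : S ≃* S.map f :=
    MulEquiv.ofBijective (f.subgroupMap S) ⟨hinj, f.subgroupMap_surjective S⟩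
  rw [thompsonSubgroupAOf, thompsonSubgroupAOf, ← Cfsg.Lib.Local.GlaubermanZJ.map_thompsonSubgroupA e,
    Subgroup.map_map, Subgroup.map_map]
  rfl

theorem normalizer_le_normalizer_thompsonSubgroupAOf {G : Type u} [Group G] [Finite G] (S : Subgroup G) :
    normalizer (S : Set G) ≤ normalizer (thompsonSubgroupAOf S : Set G) := by
  haveI : (thompsonSubgroupA ↥S).Characteristic :=
    characteristic_iff_map_eq.mpr fun e => Cfsg.Lib.Local.GlaubermanZJ.map_thompsonSubgroupA e
  exact Cfsg.Lib.Core.normalizer_le_normalizer_map_char _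

theorem thompsonSubgroupAOf_ne_bot {G : Type u} [Group G] [Finite G] [Fact p.Prime] {S : Subgroup G}
    (hS : IsPGroup p S) (hne : S ≠ ⊥) : thompsonSubgroupAOf S ≠ ⊥ := fun h =>
  Cfsg.Lib.Local.GlaubermanZJ.centerThompsonAOf_ne_bot hS hne (le_bot_iff.mp (inf_le_left.trans h.le))

variable [hp : Fact p.Prime]

variable {G : Type u} [Group G]

/-- The hypothesis passes from the image to the source of an injective homomorphism. -/
theorem localA_of_injective [Finite G] [hp : Fact p.Prime] {H : Type u} [Group H]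
    [Finite H] (f : H →* G) (hf : Function.Injective f) (S : Subgroup H)
    (h : LocalA p (S.map f)) : LocalA p S := by
  have hinj : Set.InjOn f S := hf.injOn
  constructor
  · have hmem : ∀ x : normalizer (thompsonSubgroupAOf S : Set H),
        f x ∈ normalizer (thompsonSubgroupAOf (S.map f) : Set G) := fun x => by
      rw [← map_thompsonSubgroupAOf f S hinj]
      exact le_normalizer_map f ⟨x, x.2, rfl⟩
    refine hasNormalPComplement_of_injective
      ((f.comp (normalizer (thompsonSubgroupAOf S : Set H)).subtype).codRestrict _ hmem) ?_ h.1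
    exact fun x y hxy => Subtype.ext (hf (congrArg Subtype.val hxy))
  · have hmem : ∀ x : centralizer (zenter S : Set H),
        f x ∈ centralizer (zenter (S.map f) : Set G) := fun x => by
      rw [← map_zenter f S hinj, mem_centralizer_iff]
      rintro _ ⟨z, hz, rfl⟩
      rw [← map_mul, ← map_mul, mem_centralizer_iff.mp x.2 z hz]
    refine hasNormalPComplement_of_injective
      ((f.comp (centralizer (zenter S : Set H)).subtype).codRestrict _ hmem) ?_ h.2
    exact fun x y hxy => Subtype.ext (hf (congrArg Subtype.val hxy))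

theorem localA_sylow [Finite G] [hp : Fact p.Prime] (P Q : Sylow p G)
    (h : LocalA p (P : Subgroup G)) : LocalA p (Q : Subgroup G) := by
  obtain ⟨g, hg⟩ := MulAction.exists_smul_eq G Q P
  refine localA_of_injective (MulAut.conj g).toMonoidHom (MulAut.conj g).injective _ ?_
  have he : (Q : Subgroup G).map (MulAut.conj g).toMonoidHom = (P : Subgroup G) := by
    rw [← hg]; rfl
  rw [he]; exact h

/-- The hypothesis passes to the quotient by a normal `p'`-subgroup. -/
theorem localA_map_of_coprime [Finite G] [hp : Fact p.Prime] {H : Type v} [Group H]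
    (f : G →* H) (hf : Function.Surjective f) (hker : (Nat.card f.ker).Coprime p)
    {S : Subgroup G} (hS : IsPGroup p S) (h : LocalA p S) :
    LocalA p (S.map f) := by
  have : Finite H := Finite.of_surjective f hf
  obtain ⟨k, hk⟩ := IsPGroup.iff_card.mp hS
  have hd : Disjoint f.ker S :=
    Cfsg.Lib.Coprime.disjoint_of_coprime_card (by rw [hk]; exact hker.pow_right k)
  have hinj : Set.InjOn f S := fun x hx y hy hxy => by
    have h1 : x * y⁻¹ ∈ f.ker ⊓ S := ⟨f.mem_ker.mpr (by rw [map_mul, map_inv, hxy, mul_inv_cancel]),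
      S.mul_mem hx (S.inv_mem hy)⟩
    rw [disjoint_iff.mp hd, mem_bot, mul_inv_eq_one] at h1
    exact h1
  -- the normalizer of the image is the image of the normalizer
  have hlift : ∀ K : Subgroup G, K ≤ S → ∀ y ∈ normalizer ((K.map f : Subgroup H) : Set H),
      ∃ x ∈ normalizer (K : Set G), f x = y := by
    intro K hKS y hy
    obtain ⟨x, rfl⟩ := hf y
    have hB : K.map (MulAut.conj x).toMonoidHom ≤ f.ker ⊔ K := by
      rw [sup_comm, ← Subgroup.comap_map_eq, ← map_le_iff_le_comap]
      rintro _ ⟨_, ⟨k, hk, rfl⟩, rfl⟩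
      have := (mem_normalizer_iff.mp hy (f k)).mp ⟨k, hk, rfl⟩
      simpa using this
    obtain ⟨j, hj⟩ := IsPGroup.iff_card.mp (hS.to_le hKS)
    have hKN : K ≤ normalizer (f.ker : Set G) := by
      rw [normalizer_eq_top]; exact le_top
    have hKsol : Group.IsSolvable K := by
      have := (hS.to_le hKS).isNilpotent
      infer_instance
    obtain ⟨n, hn, hK⟩ := Cfsg.Lib.Coprime.exists_conj_of_coprime f.ker K _ hKN
      (by rw [hj]; exact (hker.pow_right j).symm) (Or.inl hKsol) hB
      (Cfsg.Lib.Coprime.card_map_conj K x)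
    refine ⟨n⁻¹ * x, mem_normalizer_iff_map_conj_eq.mpr ?_, by
      rw [map_mul, map_inv, f.mem_ker.mp hn, inv_one, one_mul]⟩
    show K.map (MulAut.conj (n⁻¹ * x)).toMonoidHom = K
    rw [← Cfsg.Lib.Coprime.map_conj_conj, hK, Cfsg.Lib.Coprime.map_conj_conj, inv_mul_cancel,
      Cfsg.Lib.Coprime.map_conj_one]
  constructor
  · rw [← map_thompsonSubgroupAOf f S hinj]
    have hmem : ∀ x : normalizer (thompsonSubgroupAOf S : Set G),
        f x ∈ normalizer (((thompsonSubgroupAOf S).map f : Subgroup H) : Set H) :=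
      fun x => le_normalizer_map f ⟨x, x.2, rfl⟩
    refine hasNormalPComplement_of_surjective
      ((f.comp (normalizer (thompsonSubgroupAOf S : Set G)).subtype).codRestrict _ hmem) ?_ h.1
    rintro ⟨y, hy⟩
    obtain ⟨x, hx, rfl⟩ := hlift _ (thompsonSubgroupAOf_le S) y hy
    exact ⟨⟨x, hx⟩, rfl⟩
  · rw [← map_zenter f S hinj]
    have hmem : ∀ x : centralizer (zenter S : Set G),
        f x ∈ centralizer (((zenter S).map f : Subgroup H) : Set H) := fun x => by
      rw [mem_centralizer_iff]
      rintro _ ⟨z, hz, rfl⟩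
      rw [← map_mul, ← map_mul, mem_centralizer_iff.mp x.2 z hz]
    refine hasNormalPComplement_of_surjective
      ((f.comp (centralizer (zenter S : Set G)).subtype).codRestrict _ hmem) ?_ h.2
    rintro ⟨y, hy⟩
    obtain ⟨x, hx, rfl⟩ := hlift _ inf_le_left y (centralizer_le_normalizer _ hy)
    refine ⟨⟨x, mem_centralizer_iff.mpr fun z hz => ?_⟩, rfl⟩
    have hz' := (mem_normalizer_iff.mp hx z).mp hz
    have h1 : f (x * z * x⁻¹) = f z := by
      rw [map_mul, map_mul, map_inv, mul_inv_eq_iff_eq_mul]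
      exact (mem_centralizer_iff.mp hy _ ⟨z, hz, rfl⟩).symm
    exact (mul_inv_eq_iff_eq_mul.mp (hinj (inf_le_left (a := S) hz') (inf_le_left (a := S) hz) h1)).symm

/-- The induction hypothesis of the proof. -/
def BelowA (p : ℕ) (G : Type u) [Group G] : Prop :=
  ∀ (H : Type u) [Group H] [Finite H], Nat.card H < Nat.card G → FreeA p H → ∀ P : Sylow p H,
    LocalA p (P : Subgroup H) → HasNormalPComplement p H

variable [Finite G]

theorem complement_subgroup_of_local (hIH : BelowA p G) (hfr : FreeA p G) {M : Subgroup G} (hM : M ≠ ⊤)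
    (S : Sylow p M) (h : LocalA p ((S : Subgroup M).map M.subtype)) :
    HasNormalPComplement p M :=
  hIH M (Cfsg.Lib.Core.lt_card_of_ne_top hM) (hfr.of_injective M.subtype M.subtype_injective) S
    (localA_of_injective M.subtype M.subtype_injective _ h)

/-- Step 1: the normal `p`-subgroup. -/
theorem exists_normal_step (hIH : BelowA p G) (hfr : FreeA p G) (P : Sylow p G)
    (hP : LocalA p (P : Subgroup G)) (hG : ¬ HasNormalPComplement p G) :
    pCore p G ≠ ⊥ ∧ ∀ K : Subgroup G, IsPGroup p K → pCore p G < K →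
      (P : Subgroup G) ≤ normalizer (K : Set G) →
        HasNormalPComplement p (normalizer (K : Set G)) := by
  have : Finite (Subgroup G) := Finite.of_injective _ SetLike.coe_injective
  set bad : Set (Subgroup G) :=
    {U | IsPGroup p U ∧ U ≠ ⊥ ∧ ¬ HasNormalPComplement p (normalizer (U : Set G))} with hbad
  set v : Subgroup G → ℕ := fun U => (Nat.card (normalizer (U : Set G))).factorization p with hv
  set key : Subgroup G → ℕ := fun U => v U * (Nat.card G + 1) + Nat.card U with hkey
  have hbne : bad.Nonempty := by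
    by_contra h
    refine hG (frobenius_local fun Q hQ hQ0 => ?_)
    by_contra hn
    exact h ⟨Q, hQ, hQ0, hn⟩
  obtain ⟨U, hU, hmax⟩ := (Set.toFinite bad).exists_maximalFor key bad hbne
  have hgood : ∀ K : Subgroup G, IsPGroup p K → K ≠ ⊥ → key U < key K →
      HasNormalPComplement p (normalizer (K : Set G)) := fun K hK hK0 hlt => by
    by_contra hn
    exact absurd (hmax (j := K) ⟨hK, hK0, hn⟩ hlt.le) (not_le.mpr hlt)
  have hvlt : ∀ K : Subgroup G, v U < v K → key U < key K := fun K h => by
    have h1 : Nat.card U ≤ Nat.card G := card_le_card_group U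
    show v U * (Nat.card G + 1) + Nat.card U < v K * (Nat.card G + 1) + Nat.card K
    have h2 : (v U + 1) * (Nat.card G + 1) ≤ v K * (Nat.card G + 1) := Nat.mul_le_mul_right _ h
    rw [add_mul, one_mul] at h2
    omega
  obtain ⟨hUp, hU0, hUn⟩ := hU
  have hNtop : normalizer (U : Set G) = ⊤ := by
    by_contra hN
    refine hUn ?_
    set N := normalizer (U : Set G) with hNdef
    obtain ⟨S⟩ : Nonempty (Sylow p N) := inferInstance
    set S₁ := (S : Subgroup N).map N.subtype with hS₁
    have hS₁p : IsPGroup p S₁ := S.2.map _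
    obtain ⟨P₀, hP₀⟩ := hS₁p.exists_le_sylow
    have hP₀h : LocalA p (P₀ : Subgroup G) := localA_sylow P P₀ hP
    refine complement_subgroup_of_local hIH hfr hN S ?_
    rcases eq_or_lt_of_le hP₀ with heq | hlt
    · rw [← hS₁, heq]; exact hP₀h
    have hT := lt_inf_normalizer P₀.2 hlt
    set T := (P₀ : Subgroup G) ⊓ normalizer (S₁ : Set G) with hTdef
    have hS₁0 : S₁ ≠ ⊥ := fun h => hU0 (le_bot_iff.mp (h ▸ sylow_of_normalizer hUp S))
    have hcardS : Nat.card S₁ = p ^ v U := by
      rw [hS₁, card_map_of_injective N.subtype_injective]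
      exact S.card_eq_multiplicity
    obtain ⟨t, ht⟩ := IsPGroup.iff_card.mp (P₀.2.to_le (inf_le_left : T ≤ _))
    have hUt : v U < t := by
      have := card_lt_card_of_lt hT
      rw [hcardS, ht] at this
      exact (Nat.pow_lt_pow_iff_right hp.out.one_lt).mp this
    have hbig : ∀ K : Subgroup G, IsPGroup p K → K ≠ ⊥ →
        normalizer (S₁ : Set G) ≤ normalizer (K : Set G) →
        HasNormalPComplement p (normalizer (K : Set G)) := by
      intro K hK hK0 hle
      refine hgood K hK hK0 (hvlt K (lt_of_lt_of_le hUt ?_))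
      have h1 := card_dvd_of_le ((inf_le_right : T ≤ _).trans hle)
      rw [ht] at h1
      exact (hp.out.pow_dvd_iff_le_factorization Nat.card_pos.ne').mp h1
    refine ⟨hbig _ (hS₁p.to_le (thompsonSubgroupAOf_le _)) (thompsonSubgroupAOf_ne_bot hS₁p hS₁0)
      (normalizer_le_normalizer_thompsonSubgroupAOf _), ?_⟩
    exact hasNormalPComplement_of_le (centralizer_le_normalizer _)
      (hbig _ (hS₁p.to_le inf_le_left) (zenter_ne_bot hS₁p hS₁0)
        (normalizer_le_normalizer_zenter _))
  have hUH : U ≤ pCore p G :=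
    Cfsg.Lib.Core.le_pCore' (normalizer_eq_top_iff.mp hNtop) hUp
  refine ⟨fun h => hU0 (le_bot_iff.mp (h ▸ hUH)), fun K hK hlt hPK => ?_⟩
  refine hgood K hK (fun h => not_lt_bot (h ▸ hlt)) ?_
  have hvU : v U = (Nat.card G).factorization p := by
    show (Nat.card (normalizer (U : Set G))).factorization p = _
    rw [hNtop, card_top]
  have hvK : (Nat.card G).factorization p ≤ v K := by
    have h1 := card_dvd_of_le hPK
    rw [P.card_eq_multiplicity] at h1
    exact (hp.out.pow_dvd_iff_le_factorization Nat.card_pos.ne').mp h1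
  show v U * (Nat.card G + 1) + Nat.card U < v K * (Nat.card G + 1) + Nat.card K
  have h2 : Nat.card U < Nat.card K := card_lt_card_of_lt (lt_of_le_of_lt hUH hlt)
  have h3 : v U * (Nat.card G + 1) ≤ v K * (Nat.card G + 1) :=
    Nat.mul_le_mul_right _ (hvU ▸ hvK)
  omega

/-- Step 2: the quotient by the `p`-core. -/
theorem quotient_step (hIH : BelowA p G) (hfr : FreeA p G) (P : Sylow p G) (hH : pCore p G ≠ ⊥)
    (hK : ∀ K : Subgroup G, IsPGroup p K → pCore p G < K →
      (P : Subgroup G) ≤ normalizer (K : Set G) →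
        HasNormalPComplement p (normalizer (K : Set G))) :
    HasNormalPComplement p (G ⧸ pCore p G) := by
  set q := QuotientGroup.mk' (pCore p G) with hq
  have hqs : Function.Surjective q := QuotientGroup.mk'_surjective _
  set P' := P.mapSurjective hqs with hP'
  have hPc : (P' : Subgroup (G ⧸ pCore p G)) = (P : Subgroup G).map q :=
    P.coe_mapSurjective hqs
  by_cases h1 : (P' : Subgroup (G ⧸ pCore p G)) = ⊥
  · refine hasNormalPComplement_of_coprime (Nat.Coprime.symm (hp.out.coprime_iff_not_dvd.mpr ?_))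
    intro hd
    exact P'.ne_bot_of_dvd_card hd h1
  have hP'p : IsPGroup p (P' : Subgroup (G ⧸ pCore p G)) := P'.2
  have hmain : ∀ K : Subgroup (G ⧸ pCore p G), IsPGroup p K → K ≠ ⊥ →
      normalizer ((P' : Subgroup (G ⧸ pCore p G)) : Set (G ⧸ pCore p G)) ≤
        normalizer (K : Set (G ⧸ pCore p G)) →
      HasNormalPComplement p (normalizer (K : Set (G ⧸ pCore p G))) := by
    intro K hKp hK0 hle
    have hker : q.ker = pCore p G := QuotientGroup.ker_mk' _
    have hKc : IsPGroup p (K.comap q) :=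
      hKp.comap_of_ker_isPGroup q (hker.symm ▸ Cfsg.Lib.Core.pCore_isPGroup p G)
    have hlt : pCore p G < K.comap q := by
      refine lt_of_le_of_ne (hker.symm.trans_le (ker_le_comap q K)) fun h => hK0 ?_
      rw [← map_comap_eq_self_of_surjective hqs K, ← h, Subgroup.map_eq_bot_iff, hker]
    have hPle : (P : Subgroup G) ≤ normalizer ((K.comap q : Subgroup G) : Set G) := by
      rw [← comap_normalizer_eq_of_surjective K hqs, ← map_le_iff_le_comap, ← hPc]
      exact le_normalizer.trans hle
    have h2 := hK _ hKc hlt hPle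
    have hmem : ∀ x : normalizer ((K.comap q : Subgroup G) : Set G),
        q x ∈ normalizer (K : Set (G ⧸ pCore p G)) := fun x =>
      (comap_normalizer_eq_of_surjective K hqs).ge x.2
    refine hasNormalPComplement_of_surjective
      ((q.comp (normalizer ((K.comap q : Subgroup G) : Set G)).subtype).codRestrict _ hmem) ?_ h2
    rintro ⟨y, hy⟩
    obtain ⟨x, rfl⟩ := hqs y
    refine ⟨⟨x, ?_⟩, rfl⟩
    rw [← comap_normalizer_eq_of_surjective K hqs]
    exact hy
  refine hIH _ (Cfsg.Lib.Core.card_quotient_lt hH) (hfr.of_surjective q hqs) P' ⟨?_, ?_⟩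
  · exact hmain _ (hP'p.to_le (thompsonSubgroupAOf_le _)) (thompsonSubgroupAOf_ne_bot hP'p h1)
      (normalizer_le_normalizer_thompsonSubgroupAOf _)
  · exact hasNormalPComplement_of_le (centralizer_le_normalizer _)
      (hmain _ (hP'p.to_le inf_le_left) (zenter_ne_bot hP'p h1) (normalizer_le_normalizer_zenter _))

/-- Step 3: no normal `p'`-subgroup. -/
theorem pPrimeCore_step (hIH : BelowA p G) (hfr : FreeA p G) (P : Sylow p G)
    (hP : LocalA p (P : Subgroup G)) (hG : ¬ HasNormalPComplement p G) :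
    pPrimeCore p G = ⊥ := by
  by_contra hM
  set q := QuotientGroup.mk' (pPrimeCore p G) with hq
  have hqs : Function.Surjective q := QuotientGroup.mk'_surjective _
  have hker : q.ker = pPrimeCore p G := QuotientGroup.ker_mk' _
  have hcop : (Nat.card q.ker).Coprime p := by
    rw [hker]; exact Cfsg.Lib.Core.pPrimeCore_coprime p G
  have h := hIH _ (Cfsg.Lib.Core.card_quotient_lt hM) (hfr.of_surjective q hqs) (P.mapSurjective hqs)
    (by rw [P.coe_mapSurjective hqs]; exact localA_map_of_coprime q hqs hcop P.2 hP)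
  rw [hasNormalPComplement_iff_coprime] at h
  refine hG (hasNormalPComplement_of_normal ((pResidual p (G ⧸ pPrimeCore p G)).comap q) ?_ ?_)
  · rw [Cfsg.Lib.Core.card_comap_eq q hqs]
    exact hcop.mul_left h
  · obtain ⟨k, hk⟩ := index_pResidual_eq_pow (p := p) (G := G ⧸ pPrimeCore p G)
    refine IsPGroup.of_card (n := k) ?_
    show ((pResidual p (G ⧸ pPrimeCore p G)).comap q).index = p ^ k
    rw [index_comap_of_surjective _ hqs, hk]

theorem no_minimal_counterexample (hfr : FreeA p G) (hIH : BelowA p G) (P : Sylow p G)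
    (hP : LocalA p (P : Subgroup G)) (hG : ¬ HasNormalPComplement p G) : False := by
  obtain ⟨hH0, hK⟩ := exists_normal_step hIH hfr P hP hG
  have hbarN := quotient_step hIH hfr P hH0 hK
  have hO := pPrimeCore_step hIH hfr P hP hG
  set H := pCore p G with hHdef
  have hHp : IsPGroup p H := Cfsg.Lib.Core.pCore_isPGroup p G
  have hHP : H ≤ (P : Subgroup G) := Cfsg.Lib.Core.pCore_le_sylow P
  have hproper : ∀ K : Subgroup G, HasNormalPComplement p K → K ≠ ⊤ := by
    intro K h hK
    subst hK
    exact hG ((hasNormalPComplement_congr topEquiv).mp h)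
  set q := QuotientGroup.mk' H with hq
  have hqs : Function.Surjective q := QuotientGroup.mk'_surjective _
  have hker : q.ker = H := QuotientGroup.ker_mk' _
  set R := pResidual p (G ⧸ H) with hR
  have hRcop : (Nat.card R).Coprime p := hasNormalPComplement_iff_coprime.mp hbarN
  -- `p`-solvable
  have hsolv : IsPSolvable p G := by
    rw [Cfsg.Lib.Core.isPSolvable_iff]
    obtain ⟨k, hk⟩ := IsPGroup.iff_card.mp hHp
    refine Cfsg.Lib.Core.HasFactorChain.extension H (Or.inl ⟨k, hk⟩) ?_
    exact Cfsg.Lib.Core.HasFactorChain.extension R (Or.inr hRcop)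
      ((Cfsg.Lib.Core.isPSolvable_iff p).mp
        (Cfsg.Lib.Core.isPSolvable_of_isPGroup isPGroup_quotient_pResidual))
  have hCH : centralizer (H : Set G) ≤ H :=
    Cfsg.Lib.Core.centralizer_pCore_le_of_isPSolvable hsolv hO
  -- proper overgroups of `P`
  have hover : ∀ M : Subgroup G, (P : Subgroup G) ≤ M → M ≠ ⊤ → M = (P : Subgroup G) := by
    intro M hPM hM
    have hMn : HasNormalPComplement p M := by
      refine complement_subgroup_of_local hIH hfr hM (P.subtype hPM) ?_
      rw [Sylow.coe_subtype, map_subgroupOf_eq_of_le hPM]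
      exact hP
    set RM := (pResidual p M).map M.subtype with hRM
    have hMN : M ≤ normalizer (RM : Set G) := by
      intro g hg
      rw [mem_normalizer_iff_map_conj_eq]
      refine eq_of_le_of_card_ge ?_ (card_map_of_injective (MulAut.conj g).injective).ge
      rintro _ ⟨_, ⟨r, hr, rfl⟩, rfl⟩
      exact ⟨⟨g, hg⟩ * r * ⟨g, hg⟩⁻¹, (pResidual_normal p M).conj_mem r hr _, rfl⟩
    have hRMcop : (Nat.card RM).Coprime p := by
      rw [hRM, card_map_of_injective M.subtype_injective]
      exact hasNormalPComplement_iff_coprime.mp hMn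
    obtain ⟨k, hk⟩ := IsPGroup.iff_card.mp hHp
    have hRH : RM ⊓ H = ⊥ :=
      disjoint_iff.mp (Cfsg.Lib.Coprime.disjoint_of_coprime_card
        (by rw [hk]; exact hRMcop.pow_right k))
    have hcomm : ⁅RM, H⁆ = ⊥ := le_bot_iff.mp (hRH ▸ le_inf
      (Cfsg.Lib.Coprime.commutator_le_of_le_normalizer ((hHP.trans hPM).trans hMN))
      (commutator_le_right RM H))
    rw [commutator_eq_bot_iff_le_centralizer] at hcomm
    have hRM0 : pResidual p M = ⊥ := by
      apply map_injective M.subtype_injective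
      rw [Subgroup.map_bot, ← hRM]
      exact le_bot_iff.mp (hRH ▸ le_inf le_rfl (hcomm.trans hCH))
    obtain ⟨j, hj⟩ := index_pResidual_eq_pow (p := p) (G := M)
    rw [hRM0, index_bot] at hj
    exact P.3 (IsPGroup.of_card hj) hPM
  -- the residual of the quotient
  set Pb := (P : Subgroup G).map q with hPb
  have hPbp : IsPGroup p Pb := P.2.map q
  obtain ⟨kP, hkP⟩ := IsPGroup.iff_card.mp hPbp
  have hRPb : R ⊓ Pb = ⊥ := disjoint_iff.mp (Cfsg.Lib.Coprime.disjoint_of_coprime_card
    (by rw [hkP]; exact hRcop.pow_right kP))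
  have hRne : R ≠ ⊥ := by
    intro h
    obtain ⟨j, hj⟩ := index_pResidual_eq_pow (p := p) (G := G ⧸ H)
    rw [← hR, h, index_bot] at hj
    obtain ⟨i, hi⟩ := IsPGroup.iff_card.mp hHp
    exact hG (hasNormalPComplement_of_isPGroup (IsPGroup.of_card (n := i + j) (by
      rw [card_eq_card_quotient_mul_card_subgroup H, hj, hi, pow_add, mul_comm])))
  have hgen : ∀ K : Subgroup (G ⧸ H), K ≤ R → Pb ≤ normalizer (K : Set (G ⧸ H)) → K ≠ ⊥ →
      K = R := by
    intro K hKR hPK hK0
    by_cases hM : (K ⊔ Pb).comap q = ⊤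
    · refine le_antisymm hKR fun r hr => ?_
      have htop : K ⊔ Pb = ⊤ := by
        rw [← map_comap_eq_self_of_surjective hqs (K ⊔ Pb), hM, map_top_of_surjective q hqs]
      obtain ⟨k, hk, s, hs, rfl⟩ :=
        Cfsg.Lib.Coprime.exists_mul_of_mem_sup hPK (htop ▸ mem_top r : r ∈ K ⊔ Pb)
      have hsR : s ∈ R ⊓ Pb := ⟨by simpa using R.mul_mem (R.inv_mem (hKR hk)) hr, hs⟩
      rw [hRPb, mem_bot] at hsR
      rw [hsR, mul_one]; exact hk
    · have h := hover _ (by rw [← map_le_iff_le_comap]; exact le_sup_right) hM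
      refine absurd (le_bot_iff.mp (hRPb ▸ le_inf hKR ?_)) hK0
      rw [hPb, ← h, map_comap_eq_self_of_surjective hqs]
      exact le_sup_left
  have hRnorm : ∀ K : Subgroup (G ⧸ H), K ≤ normalizer (R : Set (G ⧸ H)) := fun K => by
    rw [normalizer_eq_top]; exact le_top
  have hRsol : Group.IsSolvable R := by
    have h1 : Nat.card R ≠ 1 := fun h => hRne (card_eq_one.mp h)
    obtain ⟨q₀, hq₀, hd⟩ := Nat.exists_prime_and_dvd h1
    have : Fact q₀.Prime := ⟨hq₀⟩
    obtain ⟨Q, hQ⟩ := Cfsg.Lib.Coprime.exists_invariant_sylow (hRnorm Pb)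
      (by rw [hkP]; exact (hRcop.pow_right kP).symm)
      (Or.inl (by have := hPbp.isNilpotent; infer_instance)) q₀
    have hQR := hgen _ (map_subtype_le _) hQ (by
      rw [ne_eq, Subgroup.map_eq_bot_iff_of_injective _ R.subtype_injective]
      exact Q.ne_bot_of_dvd_card hd)
    have hRq : IsPGroup q₀ R := hQR ▸ Q.2.map _
    have := hRq.isNilpotent
    infer_instance
  have : IsMulCommutative R := by
    rw [← commutator_self_eq_bot_iff]
    by_contra hne
    have heq := hgen _ (commutator_le_self R)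
      (by have : (⁅R, R⁆ : Subgroup (G ⧸ H)).Normal := inferInstance
          rw [normalizer_eq_top]; exact le_top) hne
    have : Nontrivial R := (nontrivial_iff_ne_bot R).mpr hRne
    refine (Group.IsSolvable.commutator_lt_top_of_nontrivial R).ne (map_injective R.subtype_injective ?_)
    rw [map_subtype_commutator, heq, ← MonoidHom.range_eq_map, range_subtype]
  -- a largest abelian subgroup of `P` outside `H`
  obtain ⟨A, hA, hAH⟩ : ∃ A, IsMaxAbIn (P : Subgroup G) A ∧ ¬ A ≤ H := by
    by_contra h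
    push Not at h
    obtain ⟨A₀, hA₀⟩ := Cfsg.Lib.Local.GlaubermanZJ.exists_isMaxAbIn (P : Subgroup G)
    have hJ : thompsonSubgroupAOf (P : Subgroup G) = thompsonSubgroupAOf H := by
      rw [Cfsg.Lib.Local.GlaubermanZJ.thompsonSubgroupAOf_eq,
        Cfsg.Lib.Local.GlaubermanZJ.thompsonSubgroupAOf_eq]
      refine congrArg sSup (Set.ext fun A =>
        ⟨fun hA => ⟨h A hA, hA.2.1, fun C hC hCc => hA.2.2 C (hC.trans hHP) hCc⟩, fun hA =>
          ⟨hA.1.trans hHP, hA.2.1, fun C hC hCc =>
            (hA₀.2.2 C hC hCc).trans (hA.2.2 A₀ (h A₀ hA₀) hA₀.2.1)⟩⟩)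
    refine hproper _ hP.1 ?_
    rw [hJ, normalizer_eq_top_iff]
    haveI : (thompsonSubgroupA ↥H).Characteristic :=
      characteristic_iff_map_eq.mpr fun e => Cfsg.Lib.Local.GlaubermanZJ.map_thompsonSubgroupA e
    exact Cfsg.Lib.Core.normal_map_char_of_normal _
  have hAP : A ≤ (P : Subgroup G) := hA.1
  have hAc : IsMulCommutative A := hA.2.1
  have hAcm : ∀ {a b : G}, a ∈ A → b ∈ A → Commute a b := fun {a b} ha hb =>
    congrArg Subtype.val (mul_comm' (⟨a, ha⟩ : A) ⟨b, hb⟩)
  -- the module
  set ZH := zenter H with hZH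
  have hZHn : ZH.Normal := by
    show (H ⊓ centralizer (H : Set G)).Normal
    infer_instance
  set s : Set G := {x | x ∈ ZH ∧ x ^ p = 1} with hs
  set V := closure s with hVdef
  have hVEA : IsElementaryAbelian p V := Cfsg.Lib.Thompson.isEA_closure
    (fun a ha b hb => mem_centralizer_iff.mp (inf_le_right (a := H) hb.1) a (inf_le_left (b := centralizer (H : Set G)) ha.1))
    (fun a ha => ha.2)
  have hVZ : V ≤ ZH := (closure_le _).mpr fun x hx => hx.1
  have hVn : V.Normal := ⟨fun v hv g => subset_closure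
    ⟨hZHn.conj_mem v (hVZ hv) g, by rw [conj_pow, hVEA.2 v hv, mul_one, mul_inv_cancel]⟩⟩
  have hHV : H ≤ centralizer (V : Set G) :=
    le_centralizer_iff.mp (hVZ.trans inf_le_right)
  have hZP : centralizer (zenter (P : Subgroup G) : Set G) = (P : Subgroup G) :=
    hover _ (le_centralizer_iff.mp inf_le_right) (hproper _ hP.2)
  have hp'1 : ∀ x ∈ centralizer (V : Set G), (orderOf x).Coprime p → x = 1 := by
    intro x hx hco
    obtain ⟨j, hj⟩ := IsPGroup.iff_card.mp (hHp.to_le (inf_le_left : ZH ≤ H))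
    have hxZ : zpowers x ≤ centralizer (ZH : Set G) := by
      have hxV : ∀ z ∈ ZH, z ^ p = 1 → ∀ a ∈ zpowers x, Commute a z := fun z hz hzp a ha =>
        (mem_centralizer_iff.mp (zpowers_le.mpr hx ha) z (subset_closure ⟨hz, hzp⟩)).symm
      refine Cfsg.Lib.Thompson.le_centralizer_of_centralizes_small (p := p) (zpowers x) ZH
        (hHp.to_le inf_le_left) (by rw [normalizer_eq_top]; exact le_top)
        (by rw [Nat.card_zpowers, hj]; exact hco.pow_right j) ?_
      rintro z hz (hzp | ⟨hp2, hz4⟩) a ha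
      · exact (hxV z hz hzp a ha).eq
      -- an element of order four of the abelian group
      have hz2 : Commute a (z * z) := hxV _ (mul_mem hz hz)
        (by subst hp2; rw [← pow_two z, ← pow_mul]; exact hz4) a ha
      set t := a * z * a⁻¹ * z⁻¹ with ht
      have hzc : a * z * a⁻¹ ∈ ZH := hZHn.conj_mem z hz a
      have hcZ : Commute (a * z * a⁻¹) z :=
        mem_centralizer_iff.mp (inf_le_right (a := H) hz) _ (inf_le_left (b := centralizer (H : Set G)) hzc)
      have htZ : t ∈ ZH := mul_mem hzc (inv_mem hz)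
      have ht2 : t ^ 2 = 1 := by
        rw [ht, hcZ.inv_right.mul_pow, inv_pow, pow_two, pow_two,
          show a * z * a⁻¹ * (a * z * a⁻¹) = a * (z * z) * a⁻¹ by group, hz2.eq,
          mul_inv_cancel_right, mul_inv_cancel]
      have hta : Commute a t := hxV t htZ (hp2 ▸ ht2) a ha
      have hstep : ∀ n : ℕ, a ^ n * z * (a ^ n)⁻¹ = t ^ n * z := by
        intro n
        induction n with
        | zero => simp
        | succ n ih =>
          rw [pow_succ', show a * a ^ n * z * (a * a ^ n)⁻¹ = a * (a ^ n * z * (a ^ n)⁻¹) * a⁻¹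
            by group, ih, show a * (t ^ n * z) * a⁻¹ = a * t ^ n * a⁻¹ * (a * z * a⁻¹) by group,
            (hta.pow_right n).eq, mul_inv_cancel_right,
            show a * z * a⁻¹ = t * z by rw [ht, inv_mul_cancel_right], ← mul_assoc, ← pow_succ]
      have hn := hstep (orderOf a)
      rw [pow_orderOf_eq_one, one_mul, inv_one, mul_one, eq_comm, mul_eq_right] at hn
      have hdvd : orderOf t ∣ orderOf a := orderOf_dvd_of_pow_eq_one hn
      have hodd : (orderOf a).Coprime 2 := by
        obtain ⟨i, rfl⟩ := mem_zpowers_iff.mp ha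
        exact hp2 ▸ hco.coprime_dvd_left (orderOf_dvd_of_mem_zpowers ⟨i, rfl⟩)
      have ht1 : t = 1 := orderOf_eq_one_iff.mp
        (Nat.eq_one_of_dvd_coprimes hodd hdvd (orderOf_dvd_of_pow_eq_one ht2))
      rw [ht, mul_inv_eq_one, mul_inv_eq_iff_eq_mul] at ht1
      exact ht1
    have hle : zenter (P : Subgroup G) ≤ ZH := by
      have h1 : zenter (P : Subgroup G) ≤ centralizer (H : Set G) :=
        inf_le_right.trans (centralizer_le hHP)
      exact le_inf (h1.trans hCH) h1
    have hxP : x ∈ (P : Subgroup G) :=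
      hZP.le (centralizer_le hle (hxZ (mem_zpowers x)))
    obtain ⟨i, hi⟩ := IsPGroup.iff_card.mp P.2
    have h1 : orderOf x ∣ p ^ i := hi ▸ orderOf_dvd_natCard _ hxP
    exact orderOf_eq_one_iff.mp (Nat.Coprime.eq_one_of_dvd (hco.pow_right i) h1)
  have hCV : centralizer (V : Set G) = H := by
    refine le_antisymm (Cfsg.Lib.Core.le_pCore' inferInstance (IsPGroup.of_card
      (Nat.eq_prime_pow_of_unique_prime_dvd (p := p) Nat.card_pos.ne' fun {d} hd hdvd => ?_))) hHV
    by_contra hne
    have : Fact d.Prime := ⟨hd⟩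
    obtain ⟨x, hx⟩ := exists_prime_orderOf_dvd_card' (G := centralizer (V : Set G)) d hdvd
    have hx1 : (x : G) = 1 := hp'1 x x.2 (by
      rw [Subgroup.orderOf_coe, hx]
      exact (Nat.coprime_primes hd hp.out).mpr hne)
    rw [← Subgroup.orderOf_coe, hx1, orderOf_one] at hx
    exact hd.ne_one hx.symm
  -- the semidirect product of the module with the quotient
  set ψ : G →* MulAut V := MulAut.conjNormal with hψ
  have hψker : ψ.ker = H := by
    rw [← hCV]
    ext g
    rw [MonoidHom.mem_ker, mem_centralizer_iff]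
    refine ⟨fun h v hv => ?_, fun h => MulEquiv.ext fun v => Subtype.ext ?_⟩
    · have := congrArg Subtype.val (DFunLike.congr_fun h (⟨v, hv⟩ : V))
      rw [hψ, MulAut.conjNormal_apply] at this
      exact (mul_inv_eq_iff_eq_mul.mp this).symm
    · rw [hψ, MulAut.conjNormal_apply]
      show g * (v : G) * g⁻¹ = v
      rw [← h v v.2, mul_inv_cancel_right]
  set e : G ⧸ H ≃* ψ.range :=
    (QuotientGroup.quotientMulEquivOfEq hψker.symm).trans (QuotientGroup.quotientKerEquivRange ψ)
  have he : ∀ g : G, ((e (q g) : ψ.range) : MulAut V) = ψ g := fun g => rfl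
  let X := SemidirectProduct V ψ.range ψ.range.subtype
  have : Finite X := Finite.of_equiv _ SemidirectProduct.equivProd.symm
  let ι : G ⧸ H →* X := (SemidirectProduct.inr).comp e.toMonoidHom
  have hι : Function.Injective ι := SemidirectProduct.inr_injective.comp e.injective
  set VX : Subgroup X := (SemidirectProduct.inl : V →* X).range with hVX
  have hVXEA : IsElementaryAbelian p VX := by
    refine ⟨⟨⟨?_⟩⟩, ?_⟩
    · rintro ⟨_, v, rfl⟩ ⟨_, w, rfl⟩
      exact Subtype.ext ((Commute.map (f := (SemidirectProduct.inl : V →* X))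
        (Subtype.ext (Cfsg.Lib.Thompson.isEA_commute hVEA v.2 w.2).eq : Commute v w)).eq)
    · rintro _ ⟨v, rfl⟩
      rw [← map_pow, show v ^ p = 1 from Subtype.ext (hVEA.2 _ v.2), map_one]
  have hVXn : ∀ K : Subgroup X, K ≤ normalizer (VX : Set X) := fun K => by
    have : VX.Normal := by
      rw [hVX, SemidirectProduct.range_inl_eq_ker_rightHom]; infer_instance
    rw [normalizer_eq_top]; exact le_top
  set Q := R.map ι with hQdef
  have : IsMulCommutative Q := by
    refine ⟨⟨?_⟩⟩
    rintro ⟨_, a, ha, rfl⟩ ⟨_, b, hb, rfl⟩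
    have h := congrArg Subtype.val (mul_comm' (⟨a, ha⟩ : R) ⟨b, hb⟩)
    exact Subtype.ext (by simpa only [Subgroup.coe_mul, map_mul] using congrArg ι h)
  set Ab := A.map q with hAb
  have hfix : ∀ g : G, ∀ v : V, (SemidirectProduct.inr (e (q g)) : X) * SemidirectProduct.inl v *
      (SemidirectProduct.inr (e (q g)))⁻¹ = SemidirectProduct.inl (ψ g v) := fun g v => by
    rw [← map_inv, ← SemidirectProduct.inl_aut]
    rfl
  have hQ0 : Q ⊓ centralizer (VX : Set X) = ⊥ := by
    rw [eq_bot_iff]
    rintro _ ⟨⟨r, hr, rfl⟩, hc⟩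
    obtain ⟨g, rfl⟩ := hqs r
    have hg : g ∈ H := by
      rw [← hψker, MonoidHom.mem_ker]
      refine MulEquiv.ext fun v => SemidirectProduct.inl_injective (φ := ψ.range.subtype) ?_
      rw [← hfix g v]
      exact mul_inv_eq_iff_eq_mul.mpr (mem_centralizer_iff.mp hc _ ⟨v, rfl⟩).symm
    rw [← hker, MonoidHom.mem_ker] at hg
    rw [hg, map_one]; exact one_mem _
  have hAQ0 : Ab ⊓ centralizer (R : Set (G ⧸ H)) = ⊥ := by
    set K := Pb ⊓ centralizer (R : Set (G ⧸ H)) with hK
    have htop : Pb ⊔ R = ⊤ := by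
      have h := sylow_sup_pResidual (P.mapSurjective hqs)
      rwa [P.coe_mapSurjective hqs] at h
    have hKn : K.Normal := by
      rw [← normalizer_eq_top_iff, eq_top_iff, ← htop, sup_le_iff]
      refine ⟨?_, (le_centralizer_iff.mp inf_le_right).trans (centralizer_le_normalizer _)⟩
      exact Cfsg.Lib.Coprime.le_normalizer_inf_centralizer le_normalizer (hRnorm Pb)
    have := (Cfsg.Lib.Core.le_pCore' hKn (hPbp.to_le inf_le_left)).trans_eq
      Cfsg.Lib.Core.pCore_quotient_pCore_eq_bot
    exact le_bot_iff.mp ((inf_le_inf_right _ (map_mono hAP)).trans this)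
  have hCX : ∀ g : G, ι (q g) ∈ centralizer (VX : Set X) ↔ g ∈ H := by
    intro g
    rw [show g ∈ H ↔ ψ g = 1 by rw [← MonoidHom.mem_ker, hψker], mem_centralizer_iff]
    constructor
    · intro h
      refine MulEquiv.ext fun v => SemidirectProduct.inl_injective (φ := ψ.range.subtype) ?_
      rw [← hfix g v]
      exact mul_inv_eq_iff_eq_mul.mpr (h _ ⟨v, rfl⟩).symm
    · rintro h _ ⟨v, rfl⟩
      have := hfix g v
      rw [h] at this
      exact (mul_inv_eq_iff_eq_mul.mp this).symm
  have hAbp : IsPGroup p (Ab.map ι) := ((P.2.to_le hAP).map q).map ι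
  have hbound := Cfsg.Lib.Thompson.card_mul_card_centralizer_lt_abelian hVXEA (Q := Q)
    (by rw [hQdef, card_map_of_injective hι]; exact hRcop) (hVXn Q) hQ0 (Ab.map ι)
    (by haveI := hAc; infer_instance) hAbp (hVXn _)
    ((map_mono (hRnorm Ab)).trans (le_normalizer_map ι))
    (by
      rw [eq_bot_iff]
      rintro _ ⟨⟨a, ha, rfl⟩, hc⟩
      have : a ∈ Ab ⊓ centralizer (R : Set (G ⧸ H)) := ⟨ha, mem_centralizer_iff.mpr fun r hr =>
        hι (by rw [map_mul, map_mul]; exact mem_centralizer_iff.mp hc _ ⟨r, hr, rfl⟩)⟩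
      rw [hAQ0, mem_bot] at this
      rw [this, map_one]; exact one_mem _)
    (by
      by_cases hp2 : p ≠ 2
      · exact Or.inl hp2
      have hp2' : p = 2 := not_not.mp hp2
      have hno : ¬ Cfsg.Involves (Equiv.Perm (Fin 4)) G := hfr.resolve_left hp2
      refine Or.inr ?_
      rintro _ ⟨r, -, rfl⟩ _ ⟨_, ⟨α, hα, rfl⟩, rfl⟩ hd3 hinv
      obtain ⟨g, rfl⟩ := hqs r
      rw [← map_pow, ← map_pow, hCX] at hd3
      rw [← map_inv, ← map_mul, ← map_mul, ← map_mul, ← map_inv, ← map_mul, ← map_mul, ← map_mul,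
        ← map_one ι] at hinv
      have hinv' : α * g * α⁻¹ * g ∈ H := by
        rw [← hker, MonoidHom.mem_ker]
        exact hι hinv
      rw [hCX]
      by_contra hgH
      obtain ⟨k, hk⟩ := hHp ⟨_, hd3⟩
      have hk' : (g ^ 3) ^ (2 : ℕ) ^ k = 1 := hp2' ▸ congrArg Subtype.val hk
      set y := g ^ (2 : ℕ) ^ k with hy
      have hy3 : y ^ 3 = 1 := by rw [hy, ← pow_mul, mul_comm, pow_mul, hk']
      have hyH : y ∉ H := by
        intro hyH
        refine hgH ?_
        have hco : IsCoprime ((2 : ℤ) ^ k) 3 :=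
          IsCoprime.pow_left (⟨-1, 1, by norm_num⟩ : IsCoprime (2 : ℤ) 3)
        obtain ⟨u, v, huv⟩ := hco
        rw [← zpow_one g, ← huv, zpow_add, mul_comm u, zpow_mul, mul_comm v, zpow_mul]
        refine mul_mem (zpow_mem ?_ u) (zpow_mem ?_ v)
        · rw [show ((2 : ℤ) ^ k) = (((2 : ℕ) ^ k : ℕ) : ℤ) by push_cast; ring, zpow_natCast]
          exact hyH
        · exact_mod_cast hd3
      refine hno (Cfsg.Lib.Local.involves_four_of_inverted (T := V) (x := α) (y := y)
        (hp2' ▸ (hHp.to_le (hVZ.trans inf_le_left))) (by rw [normalizer_eq_top]; trivial)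
        (by rw [normalizer_eq_top]; trivial)
        (by
          obtain ⟨n, hn⟩ := IsPGroup.iff_orderOf.mp P.2 ⟨α, hAP hα⟩
          rw [← Subgroup.orderOf_coe] at hn
          exact ⟨n, hp2' ▸ hn⟩)
        (by
          obtain ⟨n, hn, e⟩ := (Nat.dvd_prime_pow Nat.prime_three).mp
            (show orderOf y ∣ 3 ^ 1 by rw [pow_one]; exact orderOf_dvd_of_pow_eq_one hy3)
          exact ⟨n, e⟩)
        (by rw [hy3]; exact one_mem _) (by rw [hCV]; exact hyH) ?_)
      rw [hCV]
      rw [← hker, MonoidHom.mem_ker] at hinv' ⊢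
      rw [map_mul, map_mul, map_mul, map_inv] at hinv' ⊢
      rw [mul_eq_one_iff_eq_inv] at hinv' ⊢
      rw [hy, map_pow, ← conj_pow, hinv', inv_pow])
    (by
      rw [ne_eq, Subgroup.map_eq_bot_iff_of_injective _ hι, hAb, Subgroup.map_eq_bot_iff, hker]
      exact hAH)
  have hcardV : Nat.card VX = Nat.card V :=
    (Nat.card_congr (MonoidHom.ofInjective SemidirectProduct.inl_injective).toEquiv).symm
  rw [card_map_of_injective hι, hcardV] at hbound
  have hfixle : Nat.card (V ⊓ centralizer (A : Set G) : Subgroup G) ≤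
      Nat.card (VX ⊓ centralizer ((Ab.map ι : Subgroup X) : Set X) : Subgroup X) := by
    refine Nat.card_le_card_of_injective (fun v => ⟨SemidirectProduct.inl ⟨(v : G), v.2.1⟩,
      ⟨_, rfl⟩, mem_centralizer_iff.mpr ?_⟩) ?_
    · rintro _ ⟨_, ⟨a, ha, rfl⟩, rfl⟩
      have h : ψ a ⟨(v : G), v.2.1⟩ = ⟨(v : G), v.2.1⟩ := Subtype.ext (by
        rw [hψ, MulAut.conjNormal_apply]
        exact mul_inv_eq_iff_eq_mul.mpr (mem_centralizer_iff.mp v.2.2 a ha))
      exact mul_inv_eq_iff_eq_mul.mp ((hfix a _).trans (congrArg _ h))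
    · intro v w h
      have := SemidirectProduct.inl_injective (congrArg Subtype.val h)
      exact Subtype.ext (congrArg (fun z : V => (z : G)) this)
  -- `V ⊔ (A ⊓ H)` is abelian
  set B := A ⊓ H with hBdef
  have hVB : IsMulCommutative (closure ((V : Set G) ∪ (B : Set G))) := by
    refine isMulCommutative_closure ?_
    rintro a (ha | ha) b (hb | hb)
    · exact (Cfsg.Lib.Thompson.isEA_commute hVEA ha hb).eq
    · exact (mem_centralizer_iff.mp (hHV hb.2) a ha)
    · exact (mem_centralizer_iff.mp (hHV ha.2) b hb).symm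
    · exact (hAcm ha.1 hb.1).eq
  have h1 : Nat.card (V ⊔ B : Subgroup G) ≤ Nat.card A := by
    rw [Subgroup.closure_union, Subgroup.closure_eq, Subgroup.closure_eq] at hVB
    exact hA.2.2 _ (sup_le ((hVZ.trans inf_le_left).trans hHP) (inf_le_left.trans hAP)) hVB
  have h2 : Nat.card (V ⊔ B : Subgroup G) * Nat.card (V ⊓ B : Subgroup G) =
      Nat.card V * Nat.card B := by
    rw [← Cfsg.Lib.Core.card_mul_relIndex (le_sup_left : V ≤ V ⊔ B), relIndex_sup_left, mul_assoc]
    congr 1
    rw [mul_comm, ← inf_relIndex_right V B, Cfsg.Lib.Core.card_mul_relIndex inf_le_right]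
  have h3 : Nat.card (V ⊓ B : Subgroup G) ≤ Nat.card (V ⊓ centralizer (A : Set G) : Subgroup G) := by
    refine card_le_of_le (inf_le_inf_left _ fun b hb => mem_centralizer_iff.mpr fun a ha => ?_)
    exact (hAcm ha hb.1).eq
  have h4 : Nat.card A = Nat.card Ab * Nat.card B := by
    have h : (q.ker).relIndex A = Nat.card Ab := by
      rw [← MonoidHom.comap_bot, relIndex_comap, relIndex_bot_left]
    have h' : H.relIndex A = Nat.card Ab := by rw [← h, hker]
    rw [← Cfsg.Lib.Core.card_mul_relIndex (inf_le_left : B ≤ A), hBdef, inf_comm,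
      inf_relIndex_right, h', mul_comm]
  have hlt : Nat.card Ab * Nat.card (V ⊓ centralizer (A : Set G) : Subgroup G) < Nat.card V :=
    lt_of_le_of_lt (Nat.mul_le_mul_left _ hfixle) hbound
  have h5 := Nat.mul_le_mul h1 h3
  rw [h2, h4] at h5
  have h6 : Nat.card V * Nat.card B ≤
      (Nat.card Ab * Nat.card (V ⊓ centralizer (A : Set G) : Subgroup G)) * Nat.card B := by
    linarith [h5]
  exact absurd (Nat.le_of_mul_le_mul_right h6 Nat.card_pos) (not_le.mpr hlt)

end Cfsg.Lib.ThompsonA

namespace Cfsg.Lib.ThompsonA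

open Subgroup Cfsg

universe w'

/-- Thompson's normal `p`-complement theorem, abelian version. -/
theorem normal_p_complement {p : ℕ} [hp : Fact p.Prime] {G : Type w'}
    [Group G] [Finite G] (hfr : FreeA p G) (P : Sylow p G) (h : LocalA p (P : Subgroup G)) :
    HasNormalPComplement p G := by
  suffices H : ∀ n (G : Type w') [Group G] [Finite G], Nat.card G ≤ n → FreeA p G → ∀ P : Sylow p G,
      LocalA p (P : Subgroup G) → HasNormalPComplement p G from H _ G le_rfl hfr P h
  intro n
  induction n with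
  | zero =>
    intro G _ _ hn
    exact absurd Nat.card_pos (not_lt.mpr hn)
  | succ n ih =>
    intro G _ _ hn hfr P hP
    by_contra hG
    exact no_minimal_counterexample hfr (fun H _ _ hlt hf Q hQ => ih H (by omega) hf Q hQ) P hP hG

end Cfsg.Lib.ThompsonA
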